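import Mathlib.GroupTheory.Transfer
import Mathlib.GroupTheory.Abelianization.Defs
import Cfsg.Agent.TwoClassSizes.Main
import Cfsg.Agent.Fusion.Residual

/-!
Centralizers in a group and in its quotient by the centre, via class sizes of prime power elements.
-/

set_option autoImplicit false
set_option linter.style.haveILetI false

namespace Cfsg.Agent.PSLClassSize

open Subgroup
open scoped commutatorElement Pointwise

universe u

variable {G : Type u} [Group G]

/-- The size of the class of an element. -/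
noncomputable def idx (x : G) : ℕ := (centralizer ({x} : Set G)).index

/-- The projection on the central quotient. -/
abbrev prj : G →* G ⧸ center G := QuotientGroup.mk' (center G)

/-- The image of a centralizer in the central quotient. -/
noncomputable def im (x : G) : Subgroup (G ⧸ center G) :=
  (centralizer ({x} : Set G)).map prj

/-- The order of the element is a power of `r`. -/
def PP (r : ℕ) (x : G) : Prop := ∃ k, orderOf x ∣ r ^ k

theorem mem_cent {x y : G} : y ∈ centralizer ({x} : Set G) ↔ Commute y x :=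
  mem_centralizer_singleton_iff

theorem prj_eq_one {x : G} : prj x = 1 ↔ x ∈ center G := QuotientGroup.eq_one_iff x

theorem center_le_cent (x : G) : center G ≤ centralizer ({x} : Set G) := fun z hz =>
  mem_cent.2 (mem_center_iff.1 hz x).symm

theorem idx_eq_one {x : G} : idx x = 1 ↔ x ∈ center G := by
  rw [idx, index_eq_one, eq_top_iff, mem_center_iff]
  exact ⟨fun h y => (mem_cent.1 (h (mem_top y))).eq, fun h y _ => mem_cent.2 (h y)⟩

theorem index_im (x : G) : (im x).index = idx x :=
  index_map_eq _ (QuotientGroup.mk'_surjective _) (by rw [QuotientGroup.ker_mk']; exact center_le_cent x)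

theorem card_im_mul [Finite G] (x : G) :
    idx x * Nat.card (im x) = Nat.card (G ⧸ center G) := by
  rw [← index_im]; exact index_mul_card _

theorem idx_pos [Finite G] (x : G) : 0 < idx x := Nat.pos_of_ne_zero index_ne_zero_of_finite

theorem idx_dvd_of_cent_le {x y : G}
    (h : centralizer ({x} : Set G) ≤ centralizer ({y} : Set G)) : idx y ∣ idx x :=
  index_dvd_of_le h

theorem cent_le_of_mem_zpowers {x g : G} (h : x ∈ zpowers g) :
    centralizer ({g} : Set G) ≤ centralizer ({x} : Set G) := fun y hy => by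
  obtain ⟨i, rfl⟩ := mem_zpowers_iff.1 h
  exact mem_cent.2 ((mem_cent.1 hy).zpow_right i)

theorem cent_eq_of_idx [Finite G] {x y : G}
    (h : centralizer ({x} : Set G) ≤ centralizer ({y} : Set G)) (e : idx x = idx y) :
    centralizer ({x} : Set G) = centralizer ({y} : Set G) := by
  refine eq_of_le_of_card_ge h (le_of_eq ?_)
  have h1 := card_mul_index (centralizer ({x} : Set G))
  have h2 := card_mul_index (centralizer ({y} : Set G))
  have h3 := idx_pos y
  unfold idx at e h3
  rw [e, ← h2] at h1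
  exact (Nat.eq_of_mul_eq_mul_right h3 h1).symm

theorem idx_conj (g x : G) : idx (g * x * g⁻¹) = idx x := by
  have : centralizer ({g * x * g⁻¹} : Set G)
      = (centralizer ({x} : Set G)).map (MulAut.conj g).toMonoidHom := by
    ext y
    rw [mem_map_equiv, mem_cent, mem_cent, ← Commute.conj_iff g⁻¹]
    simp [MulAut.conj_symm_apply, mul_assoc]
  rw [idx, this]
  exact index_map_equiv _ (MulAut.conj g)

theorem not_center_conj {g x : G} (h : x ∉ center G) : g * x * g⁻¹ ∉ center G := fun hc => h (by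
  have := (inferInstance : (center G).Normal).conj_mem _ hc g⁻¹
  simpa [mul_assoc] using this)

theorem PP.coprime {r m : ℕ} {x : G} (h : PP r x) (hm : Nat.Coprime r m) :
    Nat.Coprime (orderOf x) m :=
  let ⟨k, hk⟩ := h
  Nat.Coprime.coprime_dvd_left hk (Nat.Coprime.pow_left k hm)

theorem PP.coprime_pp {r s : ℕ} (hr : r.Prime) (hs : s.Prime) (hne : r ≠ s) {x y : G}
    (hx : PP r x) (hy : PP s y) : Nat.Coprime (orderOf x) (orderOf y) :=
  hx.coprime (hy.coprime ((Nat.coprime_primes hs hr).2 hne.symm)).symm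

theorem PP.conj {r : ℕ} {x : G} (h : PP r x) (g : G) : PP r (g * x * g⁻¹) := by
  obtain ⟨k, hk⟩ := h
  exact ⟨k, by rw [show g * x * g⁻¹ = MulAut.conj g x from rfl, MulEquiv.orderOf_eq]; exact hk⟩

theorem PP.map {H : Type*} [Group H] {r : ℕ} {x : G} (h : PP r x) (f : G →* H) : PP r (f x) :=
  let ⟨k, hk⟩ := h
  ⟨k, (orderOf_map_dvd f x).trans hk⟩

theorem PP.pow_eq {r : ℕ} {x : G} (h : PP r x) : ∃ k, x ^ r ^ k = 1 :=
  let ⟨k, hk⟩ := h
  ⟨k, orderOf_dvd_iff_pow_eq_one.1 hk⟩

theorem eq_one_of_coprime {x : G} {r : ℕ} (h : PP r x) {m : ℕ} (hm : x ^ m = 1)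
    (hc : Nat.Coprime r m) : x = 1 :=
  orderOf_eq_one_iff.1 ((h.coprime hc).eq_one_of_dvd (orderOf_dvd_of_pow_eq_one hm))

theorem cent_mul [Finite G] {x y : G} (hc : Commute x y)
    (ho : Nat.Coprime (orderOf x) (orderOf y)) :
    centralizer ({x * y} : Set G) = centralizer ({x} : Set G) ⊓ centralizer ({y} : Set G) := by
  have key : ∀ {a b : G}, Commute a b → Nat.Coprime (orderOf a) (orderOf b) →
      a ∈ zpowers (a * b) := by
    intro a b hab hco
    have h1 : (a * b) ^ orderOf b = a ^ orderOf b := by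
      rw [hab.mul_pow, pow_orderOf_eq_one, mul_one]
    obtain ⟨m, hm⟩ := exists_pow_eq_self_of_coprime hco.symm
    have h2 : ((a * b) ^ orderOf b) ^ m ∈ zpowers (a * b) :=
      Subgroup.pow_mem _ (Subgroup.pow_mem _ (mem_zpowers _) _) _
    rwa [h1, hm] at h2
  refine le_antisymm (le_inf (cent_le_of_mem_zpowers (key hc ho))
    (cent_le_of_mem_zpowers (by rw [hc.eq]; exact key hc.symm ho.symm))) ?_
  rintro g ⟨hgx, hgy⟩
  exact mem_cent.2 ((mem_cent.1 hgx).mul_right (mem_cent.1 hgy))

/-- A preimage of prime power order inside the cyclic group of any preimage. -/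
theorem exists_lift_in [Finite G] {r : ℕ} (hr : r.Prime) {g : G} (h : PP r (prj g)) :
    ∃ w ∈ zpowers g, prj w = prj g ∧ PP r w := by
  haveI := Fact.mk hr
  obtain ⟨a, b, hab, hcomm, ha, -, hka, hb⟩ :=
    Fusion.exists_pPart_mul (p := r) g (isOfFinOrder_of_finite g)
  refine ⟨a, ha, ?_, hka⟩
  obtain ⟨k, hk⟩ := h.pow_eq
  obtain ⟨j, hj⟩ := PP.pow_eq (x := a) hka
  have hb1 : prj b ^ r ^ (k + j) = 1 := by
    have e : prj g = prj a * prj b := by rw [hab, map_mul]
    have h1 : prj g ^ r ^ (k + j) = 1 := by rw [pow_add, pow_mul, hk, one_pow]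
    have h2 : prj a ^ r ^ (k + j) = 1 := by
      rw [← map_pow, pow_add, mul_comm, pow_mul, hj, one_pow, map_one]
    rwa [e, (hcomm.map prj).mul_pow, h2, one_mul] at h1
  have hb2 : prj b = 1 := by
    rw [← orderOf_eq_one_iff]
    exact ((Nat.Coprime.pow_right _ hb).coprime_dvd_left (orderOf_map_dvd prj b)).eq_one_of_dvd
      (orderOf_dvd_of_pow_eq_one hb1)
  rw [hab, map_mul, hb2, mul_one]

theorem exists_lift [Finite G] {r : ℕ} (hr : r.Prime) {h : G ⧸ center G} (hh : PP r h) :
    ∃ w, prj w = h ∧ PP r w := by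
  obtain ⟨g, rfl⟩ := QuotientGroup.mk'_surjective _ h
  obtain ⟨w, -, h1, h2⟩ := exists_lift_in hr hh
  exact ⟨w, h1, h2⟩

/-- A non-central prime power component of an element. -/
theorem exists_component [Finite G] {g : G} (hg : g ∉ center G) :
    ∃ (r : ℕ) (x : G), r.Prime ∧ PP r x ∧ x ∉ center G ∧ x ∈ zpowers g := by
  by_contra hcon
  push Not at hcon
  exact hg (TwoClassSizes.le_of_primePow_mem (H := zpowers g) (K := center G)
    (fun x hx r hr hk => by_contra fun hc => hcon r x hr hk hc hx) (mem_zpowers g))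

/-- Commutation with a prime power element lifts for elements of coprime order. -/
theorem commute_of_prj [Finite G] {r : ℕ} {w g : G} (hw : PP r w)
    (hg : Nat.Coprime r (orderOf g)) (h : Commute (prj g) (prj w)) : Commute g w := by
  set z := w⁻¹ * (g * w * g⁻¹) with hz
  have hzc : z ∈ center G := prj_eq_one.1 (by
    rw [hz, map_mul, map_inv, map_mul, map_mul, map_inv, h.eq, mul_inv_cancel_right, inv_mul_cancel])
  have hzw : g * w * g⁻¹ = w * z := by rw [hz]; group
  have hpow : ∀ n : ℕ, g ^ n * w * (g ^ n)⁻¹ = w * z ^ n := by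
    intro n
    induction n with
    | zero => simp
    | succ n ih =>
      calc g ^ (n + 1) * w * (g ^ (n + 1))⁻¹ = g * (g ^ n * w * (g ^ n)⁻¹) * g⁻¹ := by
            rw [pow_succ']; group
        _ = (g * w * g⁻¹) * (g * z ^ n * g⁻¹) := by rw [ih]; group
        _ = w * z * z ^ n := by
            rw [hzw, (mem_center_iff.1 (pow_mem hzc n) g), mul_inv_cancel_right]
        _ = w * z ^ (n + 1) := by rw [pow_succ']; group
  have h1 : z ^ orderOf g = 1 := by
    have := hpow (orderOf g)
    rw [pow_orderOf_eq_one] at this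
    simpa using this
  have h2 : z = 1 := by
    obtain ⟨k, hk⟩ := hw.pow_eq
    have h3 : (g * w * g⁻¹) ^ r ^ k = 1 := by rw [conj_pow, hk, mul_one, mul_inv_cancel]
    have hwz : Commute w z := mem_center_iff.1 hzc w
    rw [hzw, hwz.mul_pow, hk, one_mul] at h3
    exact eq_one_of_coprime ⟨k, orderOf_dvd_of_pow_eq_one h3⟩ h1 hg
  rw [h2, mul_one] at hzw
  exact mul_inv_eq_iff_eq_mul.1 hzw

theorem im_le_cent (w : G) : im w ≤ centralizer ({prj w} : Set (G ⧸ center G)) := by
  rintro _ ⟨g, hg, rfl⟩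
  exact mem_cent.2 ((mem_cent.1 hg).map prj)

/-- The only prime of the index of the image of a centralizer in the centralizer of the image. -/
theorem relIndex_im_prime [Finite G] {r s : ℕ} (hs : s.Prime) (hne : s ≠ r) (hr : r.Prime) {w : G}
    (hw : PP r w) : ¬ s ∣ (im w).relIndex (centralizer ({prj w} : Set (G ⧸ center G))) := by
  haveI := Fact.mk hs
  set C := centralizer ({prj w} : Set (G ⧸ center G))
  obtain ⟨S⟩ : Nonempty (Sylow s C) := inferInstance
  have hle : (S : Subgroup C).map C.subtype ≤ im w := by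
    rintro _ ⟨c, hc, rfl⟩
    obtain ⟨k, hk⟩ := S.2 ⟨c, hc⟩
    have hpp : PP s (c : G ⧸ center G) := ⟨k, orderOf_dvd_of_pow_eq_one
      (congrArg (fun y : (S : Subgroup C) => ((y : C) : G ⧸ center G)) hk)⟩
    obtain ⟨g, hg, hgp⟩ := exists_lift hs hpp
    refine ⟨g, mem_cent.2 (commute_of_prj hw ?_ ?_), hg⟩
    · exact (hgp.coprime ((Nat.coprime_primes hs hr).2 hne)).symm
    · rw [hg]; exact mem_cent.1 c.2
  have h2 : (S : Subgroup C) ≤ (im w).subgroupOf C := fun c hc => hle ⟨c, hc, rfl⟩
  exact fun h => S.not_dvd_index (h.trans (index_dvd_of_le h2))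

/-- The centralizer in the quotient is the image of the centralizer. -/
theorem cent_prj_eq [Finite G] {r : ℕ} (hr : r.Prime) {w : G} (hw : PP r w) (hr' : ¬ r ∣ idx w) :
    centralizer ({prj w} : Set (G ⧸ center G)) = im w := by
  have h1 : (im w).relIndex (centralizer ({prj w} : Set (G ⧸ center G))) = 1 := by
    by_contra hne
    obtain ⟨s, hs, hd⟩ := Nat.exists_prime_and_dvd hne
    rcases eq_or_ne s r with rfl | hsr
    · refine hr' (hd.trans ?_)
      rw [← index_im]
      exact Dvd.intro _ (relIndex_mul_index (im_le_cent w))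
    · exact relIndex_im_prime hs hsr hr hw hd
  exact le_antisymm (relIndex_eq_one.1 h1) (im_le_cent w)

theorem card_cent_prj_two [Finite G] {w : G} (hw : PP 2 w) (h4 : ¬ 4 ∣ idx w) :
    Nat.card (centralizer ({prj w} : Set (G ⧸ center G))) = Nat.card (im w) ∨
      Nat.card (centralizer ({prj w} : Set (G ⧸ center G))) = 2 * Nat.card (im w) := by
  set C := centralizer ({prj w} : Set (G ⧸ center G))
  have hd : (im w).relIndex C ∣ idx w := by
    rw [← index_im]; exact Dvd.intro _ (relIndex_mul_index (im_le_cent w))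
  have hC : Nat.card C = (im w).relIndex C * Nat.card (im w) := by
    rw [mul_comm, ← card_mul_index ((im w).subgroupOf C),
      Nat.card_congr (subgroupOfEquivOfLe (im_le_cent w)).toEquiv]
    rfl
  have h0 : (im w).relIndex C ≠ 0 := index_ne_zero_of_finite
  obtain ⟨j, hj⟩ : ∃ j, (im w).relIndex C = 2 ^ j := by
    refine ⟨_, Nat.eq_prime_pow_of_unique_prime_dvd h0 fun {d} hd' hdd => ?_⟩
    by_contra hne
    exact relIndex_im_prime hd' hne Nat.prime_two hw hdd
  have hj1 : j ≤ 1 := by
    by_contra hlt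
    refine h4 ((Nat.pow_dvd_pow 2 (show 2 ≤ j by omega)).trans ?_)
    rw [← hj]; exact hd
  interval_cases j
  · left; rw [hC, hj, pow_zero, one_mul]
  · right; rw [hC, hj, pow_one]

/-- A prime power element of a centralizer whose image has order divisible by `r`. -/
theorem exists_pp_mem [Finite G] {r : ℕ} (hr : r.Prime) (x : G) (h : r ∣ Nat.card (im x)) :
    ∃ z, PP r z ∧ z ∉ center G ∧ Commute z x := by
  haveI := Fact.mk hr
  obtain ⟨⟨h0, hh⟩, ho⟩ := exists_prime_orderOf_dvd_card' r h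
  obtain ⟨g, hg, rfl⟩ := hh
  rw [← Subgroup.orderOf_coe] at ho
  change orderOf (prj g) = r at ho
  obtain ⟨w, hw, hwg, hwp⟩ := exists_lift_in hr ⟨1, (pow_one r).symm ▸ dvd_of_eq ho⟩
  refine ⟨w, hwp, fun hc => hr.ne_one ?_, ?_⟩
  · rw [← ho, ← hwg, prj_eq_one.2 hc, orderOf_one]
  · obtain ⟨i, rfl⟩ := mem_zpowers_iff.1 hw
    exact (mem_cent.1 hg).zpow_left i

/-- An element with centralizer of index prime to `r` has a conjugate commuting with a given
`r`-element. -/
theorem exists_conj_commute [Finite G] {r : ℕ} (hr : r.Prime) {g z : G} (hg : ¬ r ∣ idx g)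
    (hz : PP r z) : ∃ k, Commute (k * g * k⁻¹) z := by
  haveI := Fact.mk hr
  have hzp : IsPGroup r (zpowers z) := by
    obtain ⟨k, hk⟩ := hz
    obtain ⟨j, -, hj⟩ := (Nat.dvd_prime_pow hr).1 hk
    exact IsPGroup.of_card (n := j) (by rw [Nat.card_zpowers, hj])
  obtain ⟨S, hS⟩ := hzp.exists_le_sylow
  obtain ⟨T⟩ : Nonempty (Sylow r (centralizer ({g} : Set G))) := inferInstance
  have hTi : ¬ r ∣ ((T : Subgroup (centralizer ({g} : Set G))).map
      (centralizer ({g} : Set G)).subtype).index := by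
    rw [index_map_subtype]
    exact fun h => (hr.dvd_mul.1 h).elim T.not_dvd_index hg
  obtain ⟨k, hk⟩ := MulAction.exists_smul_eq G ((T.2.map _).toSylow hTi) S
  refine ⟨k, ?_⟩
  have hz' : z ∈ (k • ((T.2.map _).toSylow hTi) : Sylow r G) := hk.symm ▸ hS (mem_zpowers z)
  change z ∈ (MulAut.conj k • ((T : Subgroup (centralizer ({g} : Set G))).map
    (centralizer ({g} : Set G)).subtype) : Subgroup G) at hz'
  rw [← SetLike.mem_coe, Subgroup.coe_pointwise_smul] at hz'
  obtain ⟨t, ht, rfl⟩ := hz'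
  obtain ⟨c, -, rfl⟩ := ht
  exact ((mem_cent.1 c.2).symm.map (MulAut.conj k).toMonoidHom)

/-- A prime dividing no class size does not divide the order of the central quotient. -/
theorem not_dvd_card_quotient [Finite G] {r : ℕ} (hr : r.Prime) (h : ∀ g : G, ¬ r ∣ idx g) :
    ¬ r ∣ Nat.card (G ⧸ center G) := by
  haveI := Fact.mk hr
  obtain ⟨R⟩ : Nonempty (Sylow r G) := inferInstance
  have hR : (R : Subgroup G) ≤ center G := by
    intro z hz
    have hzp : PP r z := by
      obtain ⟨k, hk⟩ := R.2 ⟨z, hz⟩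
      exact ⟨k, orderOf_dvd_of_pow_eq_one (congrArg Subtype.val hk)⟩
    by_contra hc
    have hne : centralizer ({z} : Set G) ≠ ⊤ := fun e =>
      hc (idx_eq_one.1 (by rw [idx, e, index_top]))
    obtain ⟨v, hv⟩ := TwoClassSizes.exists_not_mem_conj hne
    obtain ⟨k, hk⟩ := exists_conj_commute hr (h v) hzp
    exact hv k⁻¹ (by rw [inv_inv]; exact mem_cent.2 hk)
  intro hd
  rw [← index_eq_card] at hd
  exact R.not_dvd_index (hd.trans (index_dvd_of_le hR))

/-- Condition for maximal centralizers. -/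
def Top (G : Type u) [Group G] (X : ℕ) : Prop := ∀ g : G, X ∣ idx g → idx g = X

/-- Condition for minimal class sizes. -/
def Bot (G : Type u) [Group G] (X : ℕ) : Prop := ∀ g : G, g ∉ center G → idx g ∣ X → idx g = X

theorem cent_le_of_top [Finite G] {X : ℕ} (hX : Top G X) {x y : G} (hx : idx x = X)
    (hc : Commute x y) (ho : Nat.Coprime (orderOf x) (orderOf y)) :
    centralizer ({x} : Set G) ≤ centralizer ({y} : Set G) := by
  have h1 : centralizer ({x * y} : Set G) ≤ centralizer ({x} : Set G) :=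
    (cent_mul hc ho).le.trans inf_le_left
  have h2 := cent_eq_of_idx h1 (by
    rw [hx]; exact hX _ (hx ▸ idx_dvd_of_cent_le h1))
  rw [← h2, cent_mul hc ho]
  exact inf_le_right

theorem cent_eq_of_top_bot [Finite G] {X : ℕ} (hX : Top G X) (hB : Bot G X) {x y : G}
    (hx : idx x = X) (hy : y ∉ center G) (hc : Commute x y)
    (ho : Nat.Coprime (orderOf x) (orderOf y)) :
    centralizer ({x} : Set G) = centralizer ({y} : Set G) := by
  have h := cent_le_of_top hX hx hc ho
  exact cent_eq_of_idx h (by rw [hx, hB y hy (hx ▸ idx_dvd_of_cent_le h)])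

/-- A centralizer whose image has order divisible by two primes has index prime to both. -/
theorem not_dvd_of_two_primes [Finite G] {X : ℕ} (hT : Top G X) (hB : Bot G X) {x : G}
    (hx : idx x = X) (hxc : x ∉ center G) {r r' : ℕ} (hr : r.Prime) (hr' : r'.Prime) (hne : r ≠ r')
    (h1 : r ∣ Nat.card (im x)) (h2 : r' ∣ Nat.card (im x))
    (hg : ∃ g : G, g ∉ center G ∧ ¬ r ∣ idx g) : ¬ r ∣ X := by
  obtain ⟨s, x₁, hs, hx₁, hx₁c, hx₁m⟩ := exists_component hxc
  have hle := cent_le_of_mem_zpowers hx₁m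
  have hx₁i : idx x₁ = X := hB x₁ hx₁c (hx ▸ idx_dvd_of_cent_le hle)
  have him : im x₁ = im x := by rw [im, im, cent_eq_of_idx hle (hx.trans hx₁i.symm)]
  rw [← him] at h1 h2
  -- an `r`-element and an element of coprime order, both of class size `X`
  obtain ⟨z, y, hz, hzi, hy, hyi, hyc, hzy⟩ : ∃ z y : G, PP r z ∧ idx z = X ∧
      Nat.Coprime r (orderOf y) ∧ idx y = X ∧ y ∉ center G ∧ Commute z y := by
    rcases eq_or_ne s r with rfl | hsr
    · obtain ⟨y, hy, hyc, hyx⟩ := exists_pp_mem hr' x₁ h2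
      have ho : Nat.Coprime (orderOf x₁) (orderOf y) := hx₁.coprime_pp hs hr' hne hy
      refine ⟨x₁, y, hx₁, hx₁i, (hy.coprime ((Nat.coprime_primes hr' hr).2 hne.symm)).symm, ?_,
        hyc, hyx.symm⟩
      rw [idx, ← cent_eq_of_top_bot hT hB hx₁i hyc hyx.symm ho, ← idx, hx₁i]
    · obtain ⟨z, hz, hzc, hzx⟩ := exists_pp_mem hr x₁ h1
      refine ⟨z, x₁, hz, ?_, (hx₁.coprime ((Nat.coprime_primes hs hr).2 hsr)).symm, hx₁i, hx₁c, hzx⟩
      rw [idx, ← cent_eq_of_top_bot hT hB hx₁i hzc hzx.symm (hx₁.coprime_pp hs hr hsr hz), ← idx,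
        hx₁i]
  intro hrX
  obtain ⟨g, hgc, hgr⟩ := hg
  obtain ⟨t, g₁, ht, hg₁, hg₁c, hg₁m⟩ := exists_component hgc
  have hg₁r : ¬ r ∣ idx g₁ := fun h => hgr (h.trans (idx_dvd_of_cent_le (cent_le_of_mem_zpowers hg₁m)))
  obtain ⟨k, hk⟩ := exists_conj_commute hr hg₁r hz
  set g' := k * g₁ * k⁻¹ with hg'
  have hg'c : g' ∉ center G := not_center_conj hg₁c
  have hg'r : ¬ r ∣ idx g' := by rw [hg', idx_conj]; exact hg₁r
  apply hg'r
  rcases eq_or_ne t r with rfl | htr
  · have hgy : Commute y g' := by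
      have hze : centralizer ({z} : Set G) = centralizer ({y} : Set G) :=
        cent_eq_of_top_bot hT hB hzi hyc hzy (hz.coprime hy)
      exact (mem_cent.1 (hze ▸ mem_cent.2 hk : g' ∈ centralizer ({y} : Set G))).symm
    rw [idx, ← cent_eq_of_top_bot hT hB hyi hg'c hgy ((hg₁.conj k).coprime hy).symm, ← idx, hyi]
    exact hrX
  · rw [idx, ← cent_eq_of_top_bot hT hB hzi hg'c hk.symm
      (hz.coprime_pp hr ht htr.symm (hg₁.conj k)), ← idx, hzi]
    exact hrX

/-- A Sylow subgroup is commutative when its image is and commutation lifts. -/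
theorem sylow_comm [Finite G] {r : ℕ} (P : Sylow r G)
    (hab : ∀ a ∈ P, ∀ b ∈ P, Commute (prj a) (prj b))
    (hlift : ∀ w : G, PP r w → w ∉ center G →
      centralizer ({prj w} : Set (G ⧸ center G)) = im w) :
    ∀ a ∈ P, ∀ b ∈ P, Commute a b := by
  intro a ha b hb
  by_cases hc : a ∈ center G
  · exact (mem_center_iff.1 hc b).symm
  obtain ⟨k, hk⟩ := P.2 ⟨a, ha⟩
  have hm : prj b ∈ im a := by
    rw [← hlift a ⟨k, orderOf_dvd_of_pow_eq_one (congrArg Subtype.val hk)⟩ hc]
    exact mem_cent.2 (hab b hb a ha)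
  obtain ⟨c, hc', hcb⟩ := hm
  have hcz : c⁻¹ * b ∈ center G := QuotientGroup.eq.1 hcb
  have := (mem_cent.1 hc').mul_left (mem_center_iff.1 hcz a).symm
  rw [mul_inv_cancel_left] at this
  exact this.symm

/-- A central element in the derived subgroup of prime power order lies in the derived subgroup of
a Sylow subgroup. -/
theorem mem_commutator_sylow [Finite G] {r : ℕ} (hr : r.Prime) (P : Sylow r G) {z : G}
    (hz : z ∈ commutator G) (hzc : z ∈ center G) (hzp : PP r z) :
    z ∈ ⁅(P : Subgroup G), (P : Subgroup G)⁆ := by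
  haveI := Fact.mk hr
  have hzP : z ∈ (P : Subgroup G) := by
    haveI hn : (zpowers z).Normal := ⟨fun x hx g => by
      rw [mem_center_iff.1 (zpowers_le.2 hzc hx) g, mul_inv_cancel_right]; exact hx⟩
    obtain ⟨k, hk⟩ := hzp
    obtain ⟨j, -, hj⟩ := (Nat.dvd_prime_pow hr).1 hk
    have hp : IsPGroup r (zpowers z) := IsPGroup.of_card (n := j) (by rw [Nat.card_zpowers, hj])
    obtain ⟨Q, hQ⟩ := hp.exists_le_sylow
    obtain ⟨g, hg⟩ := MulAction.exists_smul_eq G Q P
    have : g * z * g⁻¹ ∈ ((g • Q : Sylow r G) : Subgroup G) :=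
      ⟨z, hQ (mem_zpowers z), rfl⟩
    rw [hg, mem_center_iff.1 hzc g, mul_inv_cancel_right] at this
    exact this
  set ϕ : (P : Subgroup G) →* Abelianization (P : Subgroup G) := Abelianization.of
  have key : ∀ (k : ℕ) (g₀ : G), g₀⁻¹ * z ^ k * g₀ ∈ (P : Subgroup G) →
      g₀⁻¹ * z ^ k * g₀ = z ^ k := fun k g₀ _ => by
    rw [mul_assoc, ← mem_center_iff.1 (pow_mem hzc k) g₀, inv_mul_cancel_left]
  have h1 : MonoidHom.transfer ϕ z = 1 :=
    (MonoidHom.mem_ker).1 (Abelianization.commutator_subset_ker _ hz)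
  rw [MonoidHom.transfer_eq_pow ϕ z key] at h1
  have h2 : (⟨z ^ (P : Subgroup G).index, pow_mem hzP _⟩ : (P : Subgroup G)) ∈
      commutator (P : Subgroup G) := by
    rw [← Abelianization.ker_of]
    exact MonoidHom.mem_ker.2 h1
  have h3 : z ^ (P : Subgroup G).index ∈ ⁅(P : Subgroup G), (P : Subgroup G)⁆ := by
    rw [← map_subtype_commutator]
    exact ⟨_, h2, rfl⟩
  have hco : Nat.Coprime (orderOf z) (P : Subgroup G).index :=
    hzp.coprime ((Nat.Prime.coprime_iff_not_dvd hr).2 P.not_dvd_index)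
  obtain ⟨m, hm⟩ := exists_pow_eq_self_of_coprime hco.symm
  rw [← hm]
  exact pow_mem h3 m

theorem eq_one_of_comm_sylow [Finite G] {r : ℕ} (hr : r.Prime) (P : Sylow r G)
    (h : ∀ a ∈ P, ∀ b ∈ P, Commute a b) {z : G} (hz : z ∈ commutator G) (hzc : z ∈ center G)
    (hzp : PP r z) : z = 1 := by
  have h1 : ⁅(P : Subgroup G), (P : Subgroup G)⁆ = ⊥ := by
    rw [eq_bot_iff, commutator_le]
    exact fun a ha b hb => mem_bot.2 (commutatorElement_eq_one_iff_commute.2 (h a ha b hb))
  simpa [h1] using mem_commutator_sylow hr P hz hzc hzp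

/-- The direct decomposition from a simple central quotient. -/
theorem direct [Finite G] {S : Type*} [Group S] (e : G ⧸ center G ≃* S) (hS : commutator S = ⊤)
    (hbot : ∀ r : ℕ, r.Prime → ∀ z : G, z ∈ commutator G → z ∈ center G → PP r z → z = 1) :
    ∃ N A : Subgroup G, N.Normal ∧ A ≤ center G ∧ N ⊓ A = ⊥ ∧ N ⊔ A = ⊤ ∧
      Nonempty (N ≃* S) := by
  have hi : commutator G ⊓ center G = ⊥ := by
    refine eq_bot_iff.2 fun z hz => ?_
    exact TwoClassSizes.le_of_primePow_mem (H := commutator G ⊓ center G) (K := ⊥)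
      (fun g hg r hr hk => mem_bot.2 (hbot r hr g hg.1 hg.2 hk)) hz
  set f : G →* S := e.toMonoidHom.comp prj with hf
  have hfs : Function.Surjective f := e.surjective.comp (QuotientGroup.mk'_surjective _)
  have hfk : f.ker = center G := by
    rw [hf, show e.toMonoidHom = (e : (G ⧸ center G) →* S) from rfl,
      MonoidHom.ker_mulEquiv_comp prj e, QuotientGroup.ker_mk']
  have him : (commutator G).map f = ⊤ := by
    rw [_root_.commutator_def, map_commutator, Subgroup.map_top_of_surjective f hfs,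
      ← _root_.commutator_def, hS]
  refine ⟨commutator G, center G, inferInstance, le_rfl, hi, ?_, ⟨?_⟩⟩
  · rw [← hfk, ← comap_map_eq, him, comap_top]
  · refine MulEquiv.ofBijective (f.comp (commutator G).subtype) ⟨?_, fun s => ?_⟩
    · refine (MonoidHom.ker_eq_bot_iff _).1 (eq_bot_iff.2 fun x hx => ?_)
      have : (x : G) ∈ commutator G ⊓ center G := ⟨x.2, hfk ▸ hx⟩
      rw [hi, mem_bot] at this
      exact mem_bot.2 (Subtype.ext this)
    · obtain ⟨x, hx, hxs⟩ := him.ge (mem_top s)
      exact ⟨⟨x, hx⟩, hxs⟩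

end Cfsg.Agent.PSLClassSize
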