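import Mathlib.GroupTheory.GroupAction.Quotient
import Mathlib.GroupTheory.Index
import Cfsg.Agent.FrobeniusCount

/-!
Counting the solutions of `x ^ N = 1` when all their centralizers are conjugates of one subgroup of
order `N`.
-/

set_option autoImplicit false
set_option linter.style.haveILetI false

namespace Cfsg.Agent.PSLClassSize

open Subgroup MulAction
open scoped Pointwise

universe u

variable {H : Type u} [Group H]

/-- The centre of a subgroup, as a subgroup of the ambient group. -/
def zc (X : Subgroup H) : Subgroup H := X ⊓ centralizer (X : Set H)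

theorem map_conj_cent (g x : H) :
    (centralizer ({x} : Set H)).map (MulAut.conj g).toMonoidHom
      = centralizer ({g * x * g⁻¹} : Set H) := by
  ext y
  rw [mem_map_equiv, mem_centralizer_singleton_iff, mem_centralizer_singleton_iff,
    MulAut.conj_symm_apply]
  refine ⟨fun h => ?_, fun h => ?_⟩
  · calc y * (g * x * g⁻¹) = g * ((g⁻¹ * y * g) * x) * g⁻¹ := by group
      _ = g * (x * (g⁻¹ * y * g)) * g⁻¹ := by rw [h]
      _ = (g * x * g⁻¹) * y := by group
  · calc g⁻¹ * y * g * x = g⁻¹ * (y * (g * x * g⁻¹)) * g := by group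
      _ = g⁻¹ * ((g * x * g⁻¹) * y) * g := by rw [h]
      _ = x * (g⁻¹ * y * g) := by group

theorem mem_normalizer_of_map {X : Subgroup H} {g : H}
    (h : X.map (MulAut.conj g).toMonoidHom = X) : g ∈ normalizer (X : Set H) :=
  mem_normalizer_iff_map_conj_eq.2 h

/-- Centralizers of non-trivial solutions of `x ^ |X| = 1` are the conjugates of `X`. -/
def Covers (X : Subgroup H) : Prop :=
  ∀ x : H, x ^ Nat.card X = 1 → x ≠ 1 →
    ∃ g : H, centralizer ({x} : Set H) = X.map (MulAut.conj g).toMonoidHom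

theorem pow_card_of_mem [Finite H] {X : Subgroup H} {x : H} (h : x ∈ X) : x ^ Nat.card X = 1 :=
  congrArg Subtype.val (pow_card_eq_one' (x := (⟨x, h⟩ : X)))

theorem Covers.cent_eq [Finite H] {X : Subgroup H} (hX : Covers X) {x : H} (hx : x ∈ zc X)
    (h1 : x ≠ 1) : centralizer ({x} : Set H) = X := by
  obtain ⟨g, hg⟩ := hX x (pow_card_of_mem hx.1) h1
  refine (eq_of_le_of_card_ge (fun y hy => mem_centralizer_singleton_iff.2 (hx.2 y hy)) ?_).symm
  rw [hg, card_map_of_injective (MulAut.conj g).injective]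

theorem Covers.exists_conj [Finite H] {X : Subgroup H} (hX : Covers X) {x : H}
    (hx : x ^ Nat.card X = 1) (h1 : x ≠ 1) :
    ∃ g : H, g⁻¹ * x * g ∈ zc X ∧ centralizer ({g⁻¹ * x * g} : Set H) = X := by
  obtain ⟨g, hg⟩ := hX x hx h1
  have hc : centralizer ({g⁻¹ * x * g} : Set H) = X := by
    have h := map_conj_cent g⁻¹ x
    rw [inv_inv] at h
    rw [← h, hg, map_map]
    convert map_id X using 2
    ext y
    simp [mul_assoc]
  refine ⟨g, ⟨?_, fun y hy => ?_⟩, hc⟩
  · rw [← hc]; exact mem_centralizer_singleton_iff.2 rfl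
  · rw [← hc] at hy; exact mem_centralizer_singleton_iff.1 hy

theorem Covers.mem_normalizer [Finite H] {X : Subgroup H} (hX : Covers X) {g x : H}
    (hx : x ∈ zc X) (h1 : x ≠ 1) (hgx : g * x * g⁻¹ ∈ zc X) : g ∈ normalizer (X : Set H) := by
  refine mem_normalizer_of_map ?_
  conv_lhs => rw [← hX.cent_eq hx h1]
  rw [map_conj_cent, hX.cent_eq hgx fun e => h1 (conj_eq_one_iff.1 e)]

theorem conj_mem_zc {X : Subgroup H} {g x : H} (hg : g ∈ normalizer (X : Set H)) (hx : x ∈ zc X) :
    g * x * g⁻¹ ∈ zc X := by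
  refine ⟨(mem_normalizer_iff.1 hg x).1 hx.1, fun y hy => ?_⟩
  have h1 : g⁻¹ * y * g ∈ X := (mem_normalizer_iff''.1 hg y).1 hy
  calc y * (g * x * g⁻¹) = g * ((g⁻¹ * y * g) * x) * g⁻¹ := by group
    _ = g * (x * (g⁻¹ * y * g)) * g⁻¹ := by rw [hx.2 _ h1]
    _ = g * x * g⁻¹ * y := by group

theorem card_ne_one [Finite H] (K : Subgroup H) :
    Nat.card {x : H // x ∈ K ∧ x ≠ 1} + 1 = Nat.card K := by
  classical
  haveI := Fintype.ofFinite H
  rw [← Nat.card_congr (Equiv.subtypeSubtypeEquivSubtypeInter (fun x => x ∈ K) (fun x => x ≠ 1)),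
    Nat.card_congr (Equiv.subtypeEquivRight (q := fun a : K => a ≠ 1) fun a => by simp),
    ← Finite.card_option, Nat.card_congr (Equiv.optionSubtypeNe (1 : K))]

/-- The count. -/
theorem Covers.count [Finite H] {X : Subgroup H} (hX : Covers X) :
    Nat.card {x : H // x ^ Nat.card X = 1} =
      (normalizer (X : Set H)).index * (Nat.card (zc X) - 1) + 1 := by
  classical
  haveI := Fintype.ofFinite H
  set N := normalizer (X : Set H)
  let f : (H ⧸ N) × {x : H // x ∈ zc X ∧ x ≠ 1} → {x : H // x ^ Nat.card X = 1 ∧ x ≠ 1} :=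
    fun u => ⟨u.1.out * u.2.1 * u.1.out⁻¹,
      by rw [conj_pow, pow_card_of_mem u.2.2.1.1, mul_one, mul_inv_cancel],
      fun e => u.2.2.2 (conj_eq_one_iff.1 e)⟩
  have hf : Function.Bijective f := by
    refine ⟨?_, ?_⟩
    · rintro ⟨q, x, hx, h1⟩ ⟨q', x', hx', h1'⟩ e
      have e : q.out * x * q.out⁻¹ = q'.out * x' * q'.out⁻¹ := congrArg Subtype.val e
      have e' : (q'.out⁻¹ * q.out) * x * (q'.out⁻¹ * q.out)⁻¹ = x' := by
        calc _ = q'.out⁻¹ * (q.out * x * q.out⁻¹) * q'.out := by group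
          _ = x' := by rw [e]; group
      have hmem := hX.mem_normalizer hx h1 (e'.symm ▸ hx')
      obtain rfl : q = q' := by
        rw [← QuotientGroup.out_eq' q, ← QuotientGroup.out_eq' q', eq_comm, QuotientGroup.eq]
        exact hmem
      simpa using e
    · rintro ⟨x, hx, h1⟩
      obtain ⟨g, hg, -⟩ := hX.exists_conj hx h1
      have hm : ((g : H ⧸ N).out)⁻¹ * g ∈ N := QuotientGroup.eq.1 (QuotientGroup.out_eq' _)
      refine ⟨((g : H ⧸ N), ⟨((g : H ⧸ N).out)⁻¹ * x * (g : H ⧸ N).out, ?_, fun e => h1 ?_⟩), ?_⟩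
      · have := conj_mem_zc hm hg
        simpa [mul_assoc] using this
      · rwa [← conj_eq_one_iff (a := ((g : H ⧸ N).out)⁻¹), inv_inv]
      · exact Subtype.ext (show (g : H ⧸ N).out * (((g : H ⧸ N).out)⁻¹ * x * (g : H ⧸ N).out) *
          ((g : H ⧸ N).out)⁻¹ = x by group)
  have h2 := Nat.card_congr (Equiv.ofBijective f hf)
  rw [Nat.card_prod, ← index_eq_card] at h2
  have h3 := card_ne_one (zc X)
  have h4 : Nat.card {x : H // x ^ Nat.card X = 1 ∧ x ≠ 1} + 1 =
      Nat.card {x : H // x ^ Nat.card X = 1} := by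
    rw [← Nat.card_congr
        (Equiv.subtypeSubtypeEquivSubtypeInter (fun x : H => x ^ Nat.card X = 1) (fun x => x ≠ 1)),
      Nat.card_congr (Equiv.subtypeEquivRight
        (q := fun a : {x : H // x ^ Nat.card X = 1} => a ≠ ⟨1, one_pow _⟩) fun a => by simp [Subtype.ext_iff]),
      ← Finite.card_option, Nat.card_congr (Equiv.optionSubtypeNe _)]
  rw [← h4, ← h2, ← h3, Nat.add_sub_cancel]

/-- The order of the normalizer modulo `X` divides the number of non-trivial central elements. -/
theorem Covers.relIndex_dvd [Finite H] {X : Subgroup H} (hX : Covers X) :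
    X.relIndex (normalizer (X : Set H)) ∣ Nat.card (zc X) - 1 := by
  classical
  haveI := Fintype.ofFinite H
  set N := normalizer (X : Set H)
  letI : MulAction N {x : H // x ∈ zc X ∧ x ≠ 1} :=
    { smul := fun g x => ⟨(g : H) * x * (g : H)⁻¹, conj_mem_zc g.2 x.2.1,
        fun e => x.2.2 (conj_eq_one_iff.1 e)⟩
      one_smul := fun x => Subtype.ext (show ((1 : N) : H) * x * ((1 : N) : H)⁻¹ = x by simp)
      mul_smul := fun g g' x => Subtype.ext (show ((g * g' : N) : H) * x * ((g * g' : N) : H)⁻¹ =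
        (g : H) * ((g' : H) * x * (g' : H)⁻¹) * (g : H)⁻¹ by push_cast; group) }
  have hst : ∀ x : {x : H // x ∈ zc X ∧ x ≠ 1},
      Nat.card (orbit N x) = X.relIndex N := by
    intro x
    have he : stabilizer N x = X.subgroupOf N := by
      ext g
      rw [mem_stabilizer_iff, mem_subgroupOf,
        ← SetLike.ext_iff.1 (hX.cent_eq x.2.1 x.2.2) (g : H), mem_centralizer_singleton_iff]
      refine Subtype.ext_iff.trans ?_
      show (g : H) * x * (g : H)⁻¹ = x ↔ _
      exact mul_inv_eq_iff_eq_mul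
    rw [relIndex, ← he, index_stabilizer, Nat.card_coe_set_eq]
  have h3 := card_ne_one (zc X)
  rw [← h3, Nat.add_sub_cancel, Nat.card_congr (selfEquivSigmaOrbits N _), Nat.card_sigma]
  exact Finset.dvd_sum fun ω _ => dvd_of_eq (hst ω.out).symm

theorem Covers.relIndex_pos [Finite H] (X : Subgroup H) :
    0 < X.relIndex (normalizer (X : Set H)) :=
  Nat.pos_of_ne_zero index_ne_zero_of_finite

theorem index_normalizer_mul [Finite H] (X : Subgroup H) :
    (normalizer (X : Set H)).index * (Nat.card X * X.relIndex (normalizer (X : Set H)))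
      = Nat.card H := by
  rw [← card_mul_index (normalizer (X : Set H)), mul_comm _ (normalizer (X : Set H)).index,
    ← card_mul_index (X.subgroupOf (normalizer (X : Set H))),
    Nat.card_congr (subgroupOfEquivOfLe le_normalizer).toEquiv]
  rfl

/-- The Frobenius congruence for a covering subgroup. -/
theorem Covers.dvd_count [Finite H] {X : Subgroup H} (hX : Covers X) :
    Nat.card X ∣ (normalizer (X : Set H)).index * (Nat.card (zc X) - 1) + 1 := by
  rw [← hX.count]
  exact FrobeniusCount.dvd_card_pow_eq_one (card_subgroup_dvd_card X)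

end Cfsg.Agent.PSLClassSize
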