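import Cfsg.Agent.PSLClassSize.Count
import Cfsg.Agent.SuzukiTI.Main
import Cfsg.Agent.PSLDeg.Recog

/-!
A group of order `q (q² - 1)`, `q` a power of two, whose non-trivial 2-elements have centralizers of
order `q` is `PSL(2, q)`.
-/

set_option autoImplicit false
set_option linter.style.haveILetI false

namespace Cfsg.Agent.PSLClassSize

open Subgroup
open Cfsg.Agent.Fg24.CT (Inv2)

universe u

variable {H : Type u} [Group H] [Finite H]

theorem arith_even {n z s q : ℕ} (hns : n * s = q ^ 2 - 1) (hz : 2 ≤ z) (hzq : z ≤ q)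
    (hs : s ∣ z - 1) (h : q ∣ n * (z - 1) + 1) : s = z - 1 := by
  have hs1 : s ≤ z - 1 := Nat.le_of_dvd (by omega) hs
  have hs0 : 0 < s := Nat.pos_of_ne_zero fun e => by rw [e, Nat.zero_dvd] at hs; omega
  obtain ⟨w, hw⟩ : ∃ w, z = w + 1 := ⟨z - 1, by omega⟩
  subst hw
  rw [Nat.add_sub_cancel] at hs hs1 h ⊢
  have h1 : (q : ℤ) ∣ ((n : ℤ) * s * w + s) := by
    have := h.mul_right s
    rw [add_mul, one_mul, mul_right_comm] at this
    exact_mod_cast this
  have h2 : (n : ℤ) * s = (q : ℤ) ^ 2 - 1 := by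
    have : 1 ≤ q ^ 2 := Nat.one_le_pow _ _ (by omega)
    rw [← Nat.cast_mul, hns, Nat.cast_sub this]; push_cast; ring
  rw [h2, show ((q : ℤ) ^ 2 - 1) * w + s = (q : ℤ) * (q * w) + ((s : ℤ) - w) by ring] at h1
  rw [dvd_add_right (dvd_mul_right _ _)] at h1
  have := Int.eq_zero_of_abs_lt_dvd h1 (abs_lt.2 ⟨by omega, by omega⟩)
  omega

theorem even_iso {q f : ℕ} (hq : q = 2 ^ f) (h4 : 4 ≤ q) (hcard : Nat.card H = q * (q ^ 2 - 1))
    (hc : ∀ x : H, x ≠ 1 → (∃ k, orderOf x ∣ 2 ^ k) →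
      Nat.card (centralizer ({x} : Set H)) = q) :
    ∃ (F : Type) (_ : Field F) (_ : Fintype F), Fintype.card F = q ∧
      Nonempty (H ≃* Matrix.ProjectiveSpecialLinearGroup (Fin 2) F) := by
  classical
  haveI : Fact (Nat.Prime 2) := ⟨Nat.prime_two⟩
  obtain ⟨P⟩ : Nonempty (Sylow 2 H) := inferInstance
  have hodd : ¬ 2 ∣ q ^ 2 - 1 := by
    have h2 : 2 ∣ q ^ 2 := by
      obtain ⟨g, rfl⟩ : ∃ g, f = g + 1 := ⟨f - 1, by
        rcases Nat.eq_zero_or_pos f with rfl | hf
        · simp at hq; omega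
        · omega⟩
      rw [hq, pow_succ]; exact Dvd.dvd.pow (dvd_mul_left 2 _) two_ne_zero
    have : 1 ≤ q ^ 2 := Nat.one_le_pow _ _ (by omega)
    omega
  have hne : q ^ 2 - 1 ≠ 0 := by
    have : 2 ^ 2 ≤ q ^ 2 := Nat.pow_le_pow_left (by omega) 2
    omega
  have hP : Nat.card (P : Subgroup H) = q := by
    rw [Sylow.card_eq_multiplicity, hcard, Nat.factorization_mul (by omega) hne]
    simp [hq, Nat.factorization_pow, Nat.prime_two.factorization_self,
      Nat.factorization_eq_zero_of_not_dvd (hq ▸ hodd)]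
  set X : Subgroup H := (P : Subgroup H) with hXdef
  have hX : Covers X := by
    intro x hx h1
    rw [hP, hq] at hx
    have hcx := hc x h1 ⟨f, orderOf_dvd_of_pow_eq_one hx⟩
    have hp : IsPGroup 2 (centralizer ({x} : Set H)) := IsPGroup.of_card (n := f) (hcx.trans hq)
    obtain ⟨Q, hQ⟩ := hp.exists_le_sylow
    have hQc : centralizer ({x} : Set H) = Q := eq_of_le_of_card_ge hQ (by
      rw [hcx, ← hP, hXdef, Sylow.card_eq_multiplicity, Sylow.card_eq_multiplicity])
    obtain ⟨g, hg⟩ := MulAction.exists_smul_eq H P Q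
    exact ⟨g, by rw [hQc, ← hg]; rfl⟩
  -- the centre
  have : Nontrivial X := by
    rw [← Finite.one_lt_card_iff_nontrivial, hP]; omega
  haveI : Nontrivial (center X) := P.2.center_nontrivial
  obtain ⟨⟨⟨c, hc'⟩, hcZ⟩, hc1⟩ := exists_ne (1 : center X)
  have hcz : c ∈ zc X := ⟨hc', fun y hy => congrArg Subtype.val (mem_center_iff.1 hcZ ⟨y, hy⟩)⟩
  have hcne : c ≠ 1 := fun e => hc1 (Subtype.ext (Subtype.ext e))
  set N := normalizer (X : Set H) with hN
  set z := Nat.card (zc X) with hzdef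
  set s := X.relIndex N with hsdef
  have hz : 2 ≤ z := by
    have : Nontrivial (zc X) := ⟨⟨c, hcz⟩, 1, fun e => hcne (congrArg Subtype.val e)⟩
    exact Finite.one_lt_card
  have hzq : z ≤ q := hP ▸ card_le_of_le inf_le_left
  have hns : N.index * s = q ^ 2 - 1 := by
    have h := index_normalizer_mul X
    rw [hcard, hP] at h
    refine Nat.eq_of_mul_eq_mul_left (show 0 < q by omega) ?_
    rw [← h]; ring
  have hs : s = z - 1 := arith_even hns hz hzq hX.relIndex_dvd (hP ▸ hX.dvd_count)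
  -- the normalizer is transitive on the non-trivial central elements
  have htrans : ∀ a ∈ zc X, a ≠ 1 → ∀ b ∈ zc X, b ≠ 1 → ∃ g : H, g * a * g⁻¹ = b := by
    intro a ha ha1 b hb hb1
    let φ : N ⧸ X.subgroupOf N → {x : H // x ∈ zc X ∧ x ≠ 1} := fun r =>
      ⟨(r.out : H) * a * (r.out : H)⁻¹, conj_mem_zc r.out.2 ha, fun e => ha1 (conj_eq_one_iff.1 e)⟩
    have hφ : Function.Injective φ := by
      intro r r' e
      have e : (r.out : H) * a * (r.out : H)⁻¹ = (r'.out : H) * a * (r'.out : H)⁻¹ :=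
        congrArg Subtype.val e
      rw [← QuotientGroup.out_eq' r, ← QuotientGroup.out_eq' r', QuotientGroup.eq, mem_subgroupOf]
      have hm : (r.out : H)⁻¹ * (r'.out : H) ∈ centralizer ({a} : Set H) := by
        rw [mem_centralizer_singleton_iff]
        calc (r.out : H)⁻¹ * r'.out * a
            = (r.out : H)⁻¹ * ((r'.out : H) * a * (r'.out : H)⁻¹) * r'.out := by group
          _ = a * ((r.out : H)⁻¹ * r'.out) := by rw [← e]; group
      rw [hX.cent_eq ha ha1] at hm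
      push_cast
      exact hm
    have hcardeq : Nat.card {x : H // x ∈ zc X ∧ x ≠ 1} ≤ Nat.card (N ⧸ X.subgroupOf N) := by
      have h3 := card_ne_one (zc X)
      have h4 : Nat.card (N ⧸ X.subgroupOf N) = s := rfl
      omega
    obtain ⟨r, hr⟩ := (hφ.bijective_of_nat_card_le hcardeq).2 ⟨b, hb, hb1⟩
    exact ⟨r.out, congrArg Subtype.val hr⟩
  have hsq : ∀ x ∈ X, x * x = 1 := by
    intro x hx
    rcases eq_or_ne x 1 with rfl | h1
    · rw [one_mul]
    obtain ⟨g, hg, -⟩ := hX.exists_conj (pow_card_of_mem hx) h1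
    obtain ⟨j, hj⟩ := P.2 ⟨c, hc'⟩
    have hcp : c ^ 2 ^ j = 1 := congrArg Subtype.val hj
    obtain ⟨i, -, hi⟩ := (Nat.dvd_prime_pow Nat.prime_two).1 (orderOf_dvd_of_pow_eq_one hcp)
    have hi0 : i ≠ 0 := fun e => hcne (orderOf_eq_one_iff.1 (by rw [hi, e, pow_zero]))
    have ht : orderOf (c ^ 2 ^ (i - 1)) = 2 := by
      rw [orderOf_pow' _ (pow_ne_zero _ two_ne_zero), hi,
        Nat.gcd_eq_right (Nat.pow_dvd_pow 2 (show i - 1 ≤ i by omega)),
        Nat.pow_div (by omega) two_pos, show i - (i - 1) = 1 by omega, pow_one]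
    obtain ⟨k, hk⟩ := htrans _ (pow_mem hcz (2 ^ (i - 1))) (fun e => by rw [e, orderOf_one] at ht; omega)
      _ hg (fun e => h1 (by rwa [← conj_eq_one_iff (a := g⁻¹), inv_inv]))
    have ho : orderOf x = 2 := by
      rw [← ht, ← MulEquiv.orderOf_eq (MulAut.conj k) (c ^ 2 ^ (i - 1)), MulAut.conj_apply, hk,
        ← MulEquiv.orderOf_eq (MulAut.conj g⁻¹) x]
      simp
    rw [← pow_two, ← ho]; exact pow_orderOf_eq_one x
  have hzc : zc X = X := by
    refine le_antisymm inf_le_left fun x hx => ⟨hx, fun y hy => ?_⟩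
    have e1 : ∀ w ∈ X, w⁻¹ = w := fun w hw => inv_eq_of_mul_eq_one_right (hsq w hw)
    calc y * x = (y * x)⁻¹ := (e1 _ (mul_mem hy hx)).symm
      _ = x * y := by rw [mul_inv_rev, e1 x hx, e1 y hy]
  have hK : SuzukiTI.Hyp X := by
    refine ⟨fun e => ?_, ?_, fun t ht ht2 => hX.cent_eq (hzc.symm ▸ ht) ht2.1,
      fun y hy hy1 => (hX.cent_eq (hzc.symm ▸ hy) hy1).le⟩
    · rw [← hN] at e
      rw [e, index_top, one_mul, hs, hzdef, hzc, hP] at hns
      have : q * 2 ≤ q ^ 2 := by rw [pow_two]; exact Nat.mul_le_mul_left q (by omega)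
      omega
    · obtain ⟨⟨a, ha⟩, ha1⟩ := exists_ne (1 : X)
      obtain ⟨b, hb, hb1, hba⟩ : ∃ b ∈ X, b ≠ 1 ∧ b ≠ a := by
        by_contra hcon
        push Not at hcon
        have hle : Nat.card X ≤ Nat.card ({1, a} : Finset H) := Nat.card_le_card_of_injective
          (fun x : X => (⟨(x : H), by
            rcases eq_or_ne (x : H) 1 with h | h
            · simp [h]
            · simp [hcon _ x.2 h]⟩ : ({1, a} : Finset H)))
          (fun x y e => Subtype.ext (by simpa using e))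
        rw [hP, Nat.card_eq_fintype_card, Fintype.card_coe] at hle
        have := Finset.card_le_two (a := (1 : H)) (b := a)
        omega
      exact ⟨a, b, ha, hb, ⟨fun e => ha1 (Subtype.ext e), hsq a ha⟩, ⟨hb1, hsq b hb⟩,
        fun e => hba e.symm⟩
  have hcomm : ∀ x ∈ X, ∀ y ∈ X, x * y = y * x := fun x hx y hy =>
    ((hzc.symm ▸ hx : x ∈ zc X).2 y hy).symm
  obtain ⟨F, iF, iF', -, h4F, ⟨e'⟩, ⟨e⟩⟩ := hK.psl hcomm
  refine ⟨F, iF, iF', PSLDeg.cube_inj Fintype.card_pos (by omega) ?_, ⟨e⟩⟩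
  rw [← SL2Class.card_sl, ← Nat.card_congr e'.toEquiv, hcard]

end Cfsg.Agent.PSLClassSize
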