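import Cfsg.Agent.Classical.Dickson2.Partition
import Cfsg.Agent.Classical.SL2Sylow

/-!
The commutative Sylow subgroups of `PSL(2, q)`.
-/

set_option autoImplicit false
set_option linter.style.haveILetI false

namespace Cfsg.Agent.PSLClassSize

open Matrix Cfsg.Agent.SL2Class Cfsg.Agent.Classical.Dickson2
open scoped MatrixGroups

variable {F : Type*} [Field F] [Fintype F]

/-- Away from the prime two in odd characteristic, the Sylow subgroups are commutative. -/
theorem psl_sylow_comm {p r : ℕ} [Fact p.Prime] [CharP F p] [Fact r.Prime] (hr : r = p ∨ r ≠ 2)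
    (P : Sylow r (Matrix.ProjectiveSpecialLinearGroup (Fin 2) F)) :
    ∀ a ∈ P, ∀ b ∈ P, Commute a b := by
  rcases eq_or_ne r p with rfl | hrp
  · obtain ⟨x, h1, h2, hP⟩ := eq_tor_of_sylow r P
    obtain ⟨c, hc⟩ := exists_conj_rootP r h1 h2
    intro a ha b hb
    change a ∈ (P : Subgroup _) at ha
    change b ∈ (P : Subgroup _) at hb
    rw [hP, hc] at ha hb
    obtain ⟨_, ⟨u, rfl⟩, rfl⟩ := ha
    obtain ⟨_, ⟨v, rfl⟩, rfl⟩ := hb
    exact ((Commute.all u v).map _).map _
  · have hr2 : r ≠ 2 := hr.resolve_left hrp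
    have hs : Function.Surjective (proj : SL(2, F) →* _) := proj_surjective
    obtain ⟨R, hR⟩ := Sylow.mapSurjective_surjective hs r P
    have hc := Classical.isCyclic_sylow_sl2 p hr2 hrp R
    intro a ha b hb
    rw [← hR] at ha hb
    obtain ⟨u, hu, rfl⟩ := ha
    obtain ⟨v, hv, rfl⟩ := hb
    letI := hc.commGroup
    exact (show Commute u v from congrArg Subtype.val (mul_comm (⟨u, hu⟩ : (R : Subgroup SL(2, F))) ⟨v, hv⟩)).map _

end Cfsg.Agent.PSLClassSize
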