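import Cfsg.Agent.PSLClassSize.Basic
import Cfsg.Agent.PSLClassSize.Sylows

/-!
Central elements in the derived subgroup of an extension of `PSL(2, q)` with lifting commutation.
-/

set_option autoImplicit false
set_option linter.style.haveILetI false

namespace Cfsg.Agent.PSLClassSize

open Subgroup

universe u

variable {G : Type u} [Group G] [Finite G]

theorem eq_one_of_lift {F : Type*} [Field F] [Fintype F] {p r : ℕ} [Fact p.Prime] [CharP F p]
    (hr : r.Prime) (hr2 : r = p ∨ r ≠ 2)
    (e : G ⧸ center G ≃* Matrix.ProjectiveSpecialLinearGroup (Fin 2) F)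
    (hlift : ∀ w : G, PP r w → w ∉ center G →
      centralizer ({prj w} : Set (G ⧸ center G)) = im w)
    {z : G} (hz : z ∈ commutator G) (hzc : z ∈ center G) (hzp : PP r z) : z = 1 := by
  haveI := Fact.mk hr
  obtain ⟨P⟩ : Nonempty (Sylow r G) := inferInstance
  let f : G →* Matrix.ProjectiveSpecialLinearGroup (Fin 2) F := e.toMonoidHom.comp prj
  have hf : Function.Surjective f := e.surjective.comp (QuotientGroup.mk'_surjective _)
  refine eq_one_of_comm_sylow hr P (sylow_comm P ?_ hlift) hz hzc hzp
  intro a ha b hb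
  have h := psl_sylow_comm (p := p) hr2 (P.mapSurjective hf) (f a) ⟨a, ha, rfl⟩ (f b) ⟨b, hb, rfl⟩
  exact e.injective (by rw [map_mul, map_mul]; exact h)

end Cfsg.Agent.PSLClassSize
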