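import Cfsg.Agent.PSLClassSize.Even
import Cfsg.Agent.PSLClassSize.SylowBot

/-!
Groups with the class sizes of `PSL(2, q)`, `q` even.
-/

set_option autoImplicit false
set_option linter.style.haveILetI false

namespace Cfsg.Agent.PSLClassSize

open Subgroup

universe u v

variable {G : Type u} [Group G] [Finite G]

theorem sizes_even {q : ℕ} (h4 : 4 ≤ q) (h2 : 2 ∣ q) :
    (¬ q ^ 2 - 1 ∣ q * (q - 1)) ∧ (¬ q ^ 2 - 1 ∣ q * (q + 1)) ∧ (¬ q * (q - 1) ∣ q ^ 2 - 1) ∧
    (¬ q * (q + 1) ∣ q ^ 2 - 1) ∧ (¬ q * (q - 1) ∣ q * (q + 1)) ∧ (¬ q * (q + 1) ∣ q * (q - 1)) := by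
  obtain ⟨w, rfl⟩ : ∃ w, q = w + 1 := ⟨q - 1, by omega⟩
  rw [Nat.add_sub_cancel]
  have hA : (w + 1) ^ 2 - 1 = w * (w + 2) := by
    rw [show (w + 1) ^ 2 = w * (w + 2) + 1 by ring, Nat.add_sub_cancel]
  rw [hA]
  have hb : (w + 1) * w < w * (w + 2) := by nlinarith
  have hc : w * (w + 2) < (w + 1) * (w + 1 + 1) := by nlinarith
  have hodd : ¬ 2 ∣ w * (w + 2) := by
    intro h
    rcases Nat.prime_two.dvd_mul.1 h with h | h <;> omega
  refine ⟨fun h => ?_, fun h => ?_, fun h => hodd ((dvd_mul_of_dvd_left h2 _).trans h),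
    fun h => hodd ((dvd_mul_of_dvd_left h2 _).trans h), fun h => ?_, fun h => ?_⟩
  · have := Nat.le_of_dvd (Nat.mul_pos (by omega) (by omega)) h
    omega
  · have := Nat.le_of_dvd (by omega) ((Nat.dvd_add_right (dvd_refl _)).1
      (show w * (w + 2) ∣ w * (w + 2) + (w + 2) by
        rw [show w * (w + 2) + (w + 2) = (w + 1) * (w + 1 + 1) by ring]; exact h))
    nlinarith
  · have h' : (w + 1) * w ∣ (w + 1) * 2 := (Nat.dvd_add_right (dvd_refl _)).1
      (show (w + 1) * w ∣ (w + 1) * w + (w + 1) * 2 by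
        rw [show (w + 1) * w + (w + 1) * 2 = (w + 1) * (w + 1 + 1) by ring]; exact h)
    have := Nat.le_of_dvd (by omega) h'
    nlinarith
  · have := Nat.le_of_dvd (Nat.mul_pos (by omega) (by omega)) h
    omega

theorem even_main {F : Type v} [Field F] [Fintype F] (h2 : 2 ∣ Fintype.card F)
    (h4 : 4 ≤ Fintype.card F)
    (h : ∀ m : ℕ, (∃ g : G, idx g = m) ↔ m ∈ ({1, Fintype.card F * (Fintype.card F - 1),
      Fintype.card F ^ 2 - 1, Fintype.card F * (Fintype.card F + 1)} : Set ℕ)) :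
    ∃ e : G ⧸ center G ≃* Matrix.ProjectiveSpecialLinearGroup (Fin 2) F,
      ∀ r : ℕ, r.Prime → ∀ z : G, z ∈ commutator G → z ∈ center G → PP r z → z = 1 := by
  classical
  set q := Fintype.card F with hqdef
  obtain ⟨f, hp, hf⟩ := FiniteField.card F (ringChar F)
  have hp2 : ringChar F = 2 :=
    ((Nat.prime_dvd_prime_iff_eq Nat.prime_two hp).1 (Nat.prime_two.dvd_of_dvd_pow
      (hf ▸ h2 : 2 ∣ ringChar F ^ (f : ℕ)))).symm
  rw [hp2, ← hqdef] at hf
  haveI : CharP F 2 := ringChar.of_eq hp2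
  haveI : Fact (Nat.Prime 2) := ⟨Nat.prime_two⟩
  set a := q ^ 2 - 1 with ha
  set b := q * (q - 1) with hb
  set c := q * (q + 1) with hc
  have hab : a = (q - 1) * (q + 1) := by
    rw [ha, mul_comm, ← Nat.sq_sub_sq, one_pow]
  have hsz : ∀ g : G, g ∉ center G → idx g = b ∨ idx g = a ∨ idx g = c := fun g hg => by
    have h1 := (h (idx g)).1 ⟨g, rfl⟩
    simp only [Set.mem_insert_iff, Set.mem_singleton_iff] at h1
    exact h1.resolve_left fun e => hg (idx_eq_one.1 e)
  obtain ⟨n1, n2, n3, n4, n5, n6⟩ := sizes_even h4 h2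
  have hgt : 1 < a ∧ 1 < b ∧ 1 < c := by
    refine ⟨?_, ?_, ?_⟩
    · rw [hab]; have : (q - 1) * 1 ≤ (q - 1) * (q + 1) := Nat.mul_le_mul_left _ (by omega); omega
    · have : q * 1 ≤ b := Nat.mul_le_mul_left _ (by omega); omega
    · have : q * 1 ≤ c := Nat.mul_le_mul_left _ (by omega); omega
  have hmem : ∀ {m}, (m = b ∨ m = a ∨ m = c) → ∃ g : G, g ∉ center G ∧ idx g = m := fun {m} hm => by
    obtain ⟨g, hg⟩ := (h m).2 (by simp only [Set.mem_insert_iff, Set.mem_singleton_iff]; exact Or.inr hm)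
    refine ⟨g, fun hgc => ?_, hg⟩
    rw [idx_eq_one.2 hgc] at hg
    omega
  have htop : ∀ {X}, (X = b ∨ X = a ∨ X = c) → Top G X ∧ Bot G X := fun {X} hX => by
    refine ⟨fun g hg => ?_, fun g hgc hg => ?_⟩
    · have hgc : g ∉ center G := fun hgc => by
        rw [idx_eq_one.2 hgc, Nat.dvd_one] at hg; omega
      rcases hX with rfl | rfl | rfl <;> rcases hsz g hgc with e | e | e <;>
        rw [e] at hg ⊢ <;> contradiction
    · rcases hX with rfl | rfl | rfl <;> rcases hsz g hgc with e | e | e <;>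
        rw [e] at hg ⊢ <;> contradiction
  set n := Nat.card (G ⧸ center G) with hn
  have hdvd : ∀ g : G, idx g ∣ n := fun g => Dvd.intro _ (card_im_mul g)
  obtain ⟨xa, hxac, hxa⟩ := hmem (m := a) (Or.inr (Or.inl rfl))
  obtain ⟨xb, hxbc, hxb⟩ := hmem (m := b) (Or.inl rfl)
  obtain ⟨xc, hxcc, hxc⟩ := hmem (m := c) (Or.inr (Or.inr rfl))
  have hqa : Nat.Coprime q a := by
    rw [hf]
    refine Nat.Coprime.pow_left _ ((Nat.Prime.coprime_iff_not_dvd Nat.prime_two).2 ?_)
    rw [hab]; intro hd; rcases Nat.prime_two.dvd_mul.1 hd with hd | hd <;> omega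
  have hN0 : q * a ∣ n := hqa.mul_dvd_of_dvd_of_dvd
    (((dvd_mul_right q (q - 1)).trans hxb.symm.dvd).trans (hdvd xb)) (hxa ▸ hdvd xa)
  obtain ⟨k, hk⟩ := hN0
  have hk0 : k ≠ 0 := fun e => by
    rw [e, mul_zero, hn] at hk; exact Nat.card_pos.ne' hk
  have him : ∀ {g : G} {m u : ℕ}, idx g = m → m * u = q * a → Nat.card (im g) = u * k := by
    intro g m u e hu
    have h1 := card_im_mul g
    rw [e, ← hn, hk, ← hu, mul_assoc] at h1
    exact Nat.eq_of_mul_eq_mul_left (by rcases idx_pos g with hp'; rw [← e]; exact hp') h1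
  have hk1 : k = 1 := by
    by_contra hne
    obtain ⟨r, hr, hrk⟩ := Nat.exists_prime_and_dvd hne
    rcases eq_or_ne r 2 with rfl | hr2
    · obtain ⟨r', hr', hrd⟩ := Nat.exists_prime_and_dvd (show q + 1 ≠ 1 by omega)
      have hr'2 : (2 : ℕ) ≠ r' := fun e => by subst e; omega
      have hi := him hxb (show b * (q + 1) = q * a by rw [hb, hab]; ring)
      refine not_dvd_of_two_primes (htop (Or.inl rfl)).1 (htop (Or.inl rfl)).2 hxb hxbc
        Nat.prime_two hr' hr'2 ?_ ?_ ⟨xa, hxac, ?_⟩ (dvd_mul_of_dvd_left h2 _)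
      · rw [hi]; exact dvd_mul_of_dvd_right hrk _
      · rw [hi]; exact dvd_mul_of_dvd_left hrd _
      · rw [hxa]; exact fun hd => by
          have := (Nat.Prime.coprime_iff_not_dvd Nat.prime_two).1 (hqa.coprime_dvd_left h2)
          exact this hd
    · have hrn : r ∣ n := hk ▸ dvd_mul_of_dvd_right hrk _
      have hrq : ¬ r ∣ q := fun hd => hr2 ((Nat.prime_dvd_prime_iff_eq hr Nat.prime_two).1
        (hr.dvd_of_dvd_pow (hf ▸ hd)))
      have hra : r ∣ a := by
        by_contra hna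
        refine not_dvd_card_quotient hr (fun g hg => ?_) hrn
        by_cases hgc : g ∈ center G
        · rw [idx_eq_one.2 hgc] at hg; exact hr.not_dvd_one hg
        rcases hsz g hgc with e | e | e <;> rw [e] at hg
        · rcases hr.dvd_mul.1 hg with hd | hd
          · exact hrq hd
          · exact hna (hab ▸ dvd_mul_of_dvd_left hd _)
        · exact hna hg
        · rcases hr.dvd_mul.1 hg with hd | hd
          · exact hrq hd
          · exact hna (hab ▸ dvd_mul_of_dvd_right hd _)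
      have hg : ∃ g : G, g ∉ center G ∧ ¬ r ∣ idx g := by
        by_contra hcon
        push Not at hcon
        have h1 := (hr.dvd_mul.1 (hxb ▸ hcon xb hxbc)).resolve_left hrq
        have h2' := (hr.dvd_mul.1 (hxc ▸ hcon xc hxcc)).resolve_left hrq
        have h3 : r ∣ 2 := (Nat.dvd_add_right h1).1 (show r ∣ (q - 1) + 2 by
          rwa [show q - 1 + 2 = q + 1 by omega])
        exact hr2 ((Nat.prime_dvd_prime_iff_eq hr Nat.prime_two).1 h3)
      have hi := him hxa (show a * q = q * a by ring)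
      refine not_dvd_of_two_primes (htop (Or.inr (Or.inl rfl))).1 (htop (Or.inr (Or.inl rfl))).2
        hxa hxac hr Nat.prime_two hr2 ?_ ?_ hg hra
      · rw [hi]; exact dvd_mul_of_dvd_right hrk _
      · rw [hi]; exact dvd_mul_of_dvd_left h2 _
  subst hk1
  rw [mul_one] at hk
  -- prime power elements
  have hall : ∀ {r : ℕ}, r.Prime → ∀ w : G, PP r w → w ∉ center G →
      centralizer ({prj w} : Set (G ⧸ center G)) = im w ∧ (r = 2 → Nat.card (im w) = q) := by
    intro r hr w hw hwc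
    have hd : r ∣ Nat.card (im w) := by
      obtain ⟨j, hj⟩ := (hw.map prj)
      obtain ⟨i, -, hi⟩ := (Nat.dvd_prime_pow hr).1 hj
      have hi0 : i ≠ 0 := fun e => hwc (prj_eq_one.1 (orderOf_eq_one_iff.1 (by rw [hi, e, pow_zero])))
      have hdd := orderOf_dvd_natCard (im w) (show prj w ∈ im w from ⟨w, mem_cent.2 rfl, rfl⟩)
      rw [hi] at hdd
      exact (dvd_pow_self r hi0).trans hdd
    rcases hsz w hwc with e | e | e
    · have hi := him e (show b * (q + 1) = q * a by rw [hb, hab]; ring)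
      rw [mul_one] at hi
      rw [hi] at hd ⊢
      have hr2 : r ≠ 2 := fun e => by subst e; omega
      refine ⟨cent_prj_eq hr hw fun hdi => ?_, fun e => absurd e hr2⟩
      rw [e] at hdi
      rcases hr.dvd_mul.1 hdi with h' | h'
      · exact hr2 ((Nat.prime_dvd_prime_iff_eq hr Nat.prime_two).1 (hr.dvd_of_dvd_pow (hf ▸ h')))
      · have h3 : r ∣ 2 := (Nat.dvd_add_right h').1 (show r ∣ (q - 1) + 2 by
          rwa [show q - 1 + 2 = q + 1 by omega])
        exact hr2 ((Nat.prime_dvd_prime_iff_eq hr Nat.prime_two).1 h3)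
    · have hi := him e (show a * q = q * a by ring)
      rw [mul_one] at hi
      rw [hi] at hd ⊢
      refine ⟨cent_prj_eq hr hw fun hdi => ?_, fun _ => rfl⟩
      rw [e] at hdi
      exact hr.not_dvd_one (hqa.gcd_eq_one ▸ Nat.dvd_gcd hd hdi)
    · have hi := him e (show c * (q - 1) = q * a by rw [hc, hab]; ring)
      rw [mul_one] at hi
      rw [hi] at hd ⊢
      have hr2 : r ≠ 2 := fun e => by subst e; omega
      refine ⟨cent_prj_eq hr hw fun hdi => ?_, fun e => absurd e hr2⟩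
      rw [e] at hdi
      rcases hr.dvd_mul.1 hdi with h' | h'
      · exact hr2 ((Nat.prime_dvd_prime_iff_eq hr Nat.prime_two).1 (hr.dvd_of_dvd_pow (hf ▸ h')))
      · have h3 : r ∣ 2 := (Nat.dvd_add_right hd).1 (show r ∣ (q - 1) + 2 by
          rwa [show q - 1 + 2 = q + 1 by omega])
        exact hr2 ((Nat.prime_dvd_prime_iff_eq hr Nat.prime_two).1 h3)
  have hc2 : ∀ x : G ⧸ center G, x ≠ 1 → (∃ j, orderOf x ∣ 2 ^ j) →
      Nat.card (centralizer ({x} : Set (G ⧸ center G))) = q := by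
    intro x hx hpx
    obtain ⟨w, rfl, hw⟩ := exists_lift Nat.prime_two hpx
    obtain ⟨h1, h3⟩ := hall Nat.prime_two w hw fun hwc => hx (prj_eq_one.2 hwc)
    rw [h1, h3 rfl]
  obtain ⟨K, iK, iK', hKq, ⟨e₁⟩⟩ := even_iso (f := (f : ℕ)) hf h4 hk hc2
  obtain ⟨e₂⟩ := Classical.Small.psl_congr (n := 2) (FiniteField.ringEquivOfCardEq (K := K) (K' := F) hKq)
  refine ⟨e₁.trans e₂, fun r hr z hz hzc hzp => ?_⟩
  refine eq_one_of_lift (p := 2) hr ?_ (e₁.trans e₂) (fun w hw hwc => (hall hr w hw hwc).1) hz hzc hzp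
  exact em _

end Cfsg.Agent.PSLClassSize
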