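import Cfsg.Agent.PSLClassSize.OddBSW
import Cfsg.Agent.BSWAbstract.Recognition
import Cfsg.Agent.Zassenhaus.PSL
import Cfsg.Agent.Zassenhaus.PSLOdd
import Cfsg.Agent.Zassenhaus.PrimeSetup
import Cfsg.Agent.SmallOrder.Order360
import Cfsg.Agent.S0254
import Cfsg.Agent.PSLDeg.Recog

/-!
Identification with `PSL(2, q)`.
-/

set_option autoImplicit false
set_option linter.style.haveILetI false

namespace Cfsg.Agent.PSLClassSize

open Subgroup
open Cfsg.Agent.Zassenhaus (ZCtx IsKernel twoPt)

universe u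

variable {H : Type u} [Group H] {q M K : ℕ}

theorem eq_one_or_nine_of_two_pow {p f u : ℕ} (hp : p.Prime) (hodd : Odd p) (hf : 0 < f) (hu : 3 ≤ u)
    (h : p ^ f + 1 = 2 ^ u ∨ p ^ f = 2 ^ u + 1) : f = 1 ∨ p ^ f = 9 := by
  rcases Nat.even_or_odd f with hev | hof
  · right
    obtain ⟨m, rfl⟩ := hev
    obtain ⟨a, ha⟩ : Odd (p ^ m) := hodd.pow
    rw [pow_add, ha] at h ⊢
    have h8 : 8 ∣ 2 ^ u := Nat.pow_dvd_pow 2 hu
    rcases h with h | h
    · exfalso
      rw [← h, show (2 * a + 1) * (2 * a + 1) + 1 = 4 * (a * a + a) + 2 by ring] at h8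
      omega
    · have he : (2 * a) * (2 * a + 2) = 2 ^ u := by
        have : (2 * a + 1) * (2 * a + 1) = 2 * a * (2 * a + 2) + 1 := by ring
        omega
      have ha0 : a ≠ 0 := fun e => by
        rw [e] at he; exact absurd he.symm (by simp)
      obtain ⟨s, -, hs⟩ := (Nat.dvd_prime_pow Nat.prime_two).1 (Dvd.intro _ he)
      obtain ⟨t, -, ht⟩ := (Nat.dvd_prime_pow Nat.prime_two).1 (Dvd.intro_left _ he)
      rcases Nat.lt_or_ge s 2 with hs2 | hs2
      · interval_cases s
        · omega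
        · have : a = 1 := by omega
          subst this; norm_num
      · exfalso
        have h4 : 4 ∣ 2 * a := hs ▸ Nat.pow_dvd_pow 2 hs2
        rcases Nat.lt_or_ge t 2 with ht2 | ht2
        · interval_cases t <;> omega
        · have : 4 ∣ 2 * a + 2 := ht ▸ Nat.pow_dvd_pow 2 ht2
          omega
  · left
    -- the cofactor is odd and divides a power of two
    have key : ∀ x : ℤ, Odd x → ∀ y : ℤ, x ^ f - 1 = y → (2 : ℤ) ^ u = |y| → |x ^ f - 1| = |x - 1| := by
      intro x hx y hy habs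
      set S := ∑ i ∈ Finset.range f, x ^ i with hS
      have hmul : S * (x - 1) = x ^ f - 1 := geom_sum_mul x f
      have hSodd : Odd S := by
        obtain ⟨j, hj⟩ := hof
        have hmod : (2 : ℤ) ∣ S - f := by
          rw [hS, show (f : ℤ) = ∑ i ∈ Finset.range f, (1 : ℤ) by simp, ← Finset.sum_sub_distrib]
          exact Finset.dvd_sum fun i _ => (hx.pow.sub_odd odd_one).two_dvd
        obtain ⟨l, hl⟩ := hmod
        exact ⟨l + j, by rw [hj] at hl; push_cast at hl; linarith⟩
      have hdvd : S.natAbs ∣ 2 ^ u := by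
        have : S.natAbs ∣ y.natAbs := Int.natAbs_dvd_natAbs.2 (hy ▸ hmul ▸ dvd_mul_right S _)
        have e : y.natAbs = 2 ^ u := by
          have : ((y.natAbs : ℕ) : ℤ) = ((2 ^ u : ℕ) : ℤ) := by
            rw [Int.natCast_natAbs, ← habs]; push_cast; rfl
          exact_mod_cast this
        rwa [e] at this
      have hS1 : S.natAbs = 1 :=
        ((Nat.coprime_two_right.2 (Int.natAbs_odd.2 hSodd)).pow_right u).eq_one_of_dvd hdvd
      rw [← hmul, abs_mul, Int.abs_eq_natAbs S, hS1]; simp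
    have hpZ : Odd (p : ℤ) := by exact_mod_cast hodd
    have h2p := hp.two_le
    by_contra hf1
    have hlt : p < p ^ f := by
      calc p = p ^ 1 := (pow_one p).symm
        _ < p ^ f := Nat.pow_lt_pow_right hp.one_lt (by omega)
    rcases h with h | h
    · have := key (-(p : ℤ)) hpZ.neg _ rfl (by
        rw [Odd.neg_pow hof, show -(p : ℤ) ^ f - 1 = -((p : ℤ) ^ f + 1) by ring, abs_neg,
          abs_of_nonneg (by positivity)]
        exact_mod_cast h.symm)
      rw [Odd.neg_pow hof, show -(p : ℤ) ^ f - 1 = -((p : ℤ) ^ f + 1) by ring,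
        show -(p : ℤ) - 1 = -((p : ℤ) + 1) by ring, abs_neg, abs_neg,
        abs_of_nonneg (by positivity), abs_of_nonneg (by positivity)] at this
      have : (p : ℤ) ^ f = p := by linarith
      have : p ^ f = p := by exact_mod_cast this
      omega
    · have e1 : (p : ℤ) ^ f - 1 = 2 ^ u := by
        have : (p : ℤ) ^ f = 2 ^ u + 1 := by exact_mod_cast h
        linarith
      have := key (p : ℤ) hpZ _ rfl (by rw [e1, abs_of_nonneg (by positivity)])
      rw [abs_of_nonneg (by rw [e1]; positivity), abs_of_nonneg (by omega)] at this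
      have : (p : ℤ) ^ f = p := by linarith
      have : p ^ f = p := by exact_mod_cast this
      omega

theorem OddCtx.two_card (h : OddCtx H q M K) : 2 * Nat.card H = q * (q ^ 2 - 1) := by
  have hq : q ^ 2 - 1 = 4 * M * K := by
    have hK := h.hK
    have hM3 := h.M_ge
    rcases h.side with h' | h'
    · obtain ⟨k, rfl⟩ : ∃ k, M = k + 1 := ⟨M - 1, by omega⟩
      obtain rfl : K = k := by omega
      obtain rfl : q = 2 * K + 1 := by omega
      rw [show (2 * K + 1) ^ 2 = 4 * (K + 1) * K + 1 by ring, Nat.add_sub_cancel]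
    · obtain rfl : K = M + 1 := by omega
      subst h'
      rw [show (2 * M + 1) ^ 2 = 4 * M * (M + 1) + 1 by ring, Nat.add_sub_cancel]
  rw [h.card, hq]; ring

namespace OddCtx

variable [Finite H] (h : OddCtx H q M K)
include h

theorem prime_case (hp : q.Prime) (hK : ∀ (r : ℕ), r.Prime → r ∣ K → r = 2) :
    ∃ (F : Type) (_ : Field F) (_ : Fintype F), Fintype.card F = q ∧
      Nonempty (H ≃* Matrix.ProjectiveSpecialLinearGroup (Fin 2) F) := by
  classical
  haveI := Fact.mk hp
  haveI := h.isSimple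
  have hq7 := h.seven
  have hMg := h.M_ge
  have hKg := h.K_ge
  have hMK := h.hK
  obtain ⟨σ, hσ⟩ := exists_prime_orderOf_dvd_card' (G := H) q (h.card ▸ ⟨2 * M * K, by ring⟩)
  set P := zpowers σ with hPdef
  have hPc : Nat.card P = q := by rw [hPdef, Nat.card_zpowers, hσ]
  have hcq : ∀ x : H, orderOf x = q → Nat.card (centralizer ({x} : Set H)) = q := by
    intro x hx
    rcases h.pp q x hp (ne_one_of_order hp hx) (pp_self hx) with ⟨-, e⟩ | ⟨e, -⟩ | ⟨e, -⟩
    · exact e
    · exact absurd (Nat.dvd_one.1 (h.cop_qM.gcd_eq_one ▸ Nat.dvd_gcd dvd_rfl e)) hp.ne_one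
    · exact absurd (Nat.dvd_one.1 (h.cop_qK.gcd_eq_one ▸ Nat.dvd_gcd dvd_rfl e)) hp.ne_one
  have hzp : ∀ x : H, orderOf x = q → centralizer ({x} : Set H) = zpowers x := fun x hx =>
    (eq_of_le_of_card_ge (zpowers_le.2 (mem_centralizer_singleton_iff.2 rfl))
      (by rw [hcq x hx, Nat.card_zpowers, hx])).symm
  have hidx : ∀ x : H, orderOf x = q → ¬ q ∣ (zpowers x).index := by
    intro x hx hd
    have e := card_mul_index (zpowers x)
    rw [Nat.card_zpowers, hx, h.card] at e
    have e2 : (zpowers x).index = 2 * M * K :=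
      Nat.eq_of_mul_eq_mul_left hp.pos (e.trans (by ring))
    rw [e2, show 2 * M * K = 2 * K * M by ring] at hd
    exact hp.not_dvd_one ((h.cop_qK.mul_right h.cop_qM).gcd_eq_one ▸ Nat.dvd_gcd dvd_rfl hd)
  have hcov : Covers P := by
    intro x hx hx1
    rw [hPc] at hx
    have hxo : orderOf x = q := orderOf_eq_prime hx hx1
    obtain ⟨g, hg⟩ := MulAction.exists_smul_eq H
      ((IsPGroup.of_card (n := 1) (show Nat.card (zpowers σ) = q ^ 1 by rw [pow_one]; exact hPc)).toSylow (hidx σ hσ))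
      ((IsPGroup.of_card (n := 1) (show Nat.card (zpowers x) = q ^ 1 by
        rw [pow_one, Nat.card_zpowers, hxo])).toSylow (hidx x hxo))
    refine ⟨g, ?_⟩
    rw [hzp x hxo]
    exact (congrArg (fun S : Sylow q H => (S : Subgroup H)) hg).symm
  have hzcP : zc P = P := le_antisymm inf_le_left fun y hy => ⟨hy, fun z hz => by
    obtain ⟨i, rfl⟩ := mem_zpowers_iff.1 hy
    obtain ⟨j, rfl⟩ := mem_zpowers_iff.1 hz
    exact ((Commute.refl σ).zpow_zpow j i).eq⟩
  set N := normalizer (P : Set H) with hN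
  have hcount := hcov.count
  rw [hPc, h.count_q, hzcP, hPc, ← hN] at hcount
  have hι : N.index = q + 1 := by
    obtain ⟨k, rfl⟩ : ∃ k, q = k + 1 := ⟨q - 1, by omega⟩
    rw [Nat.add_sub_cancel] at hcount
    refine Nat.eq_of_mul_eq_mul_right (show 0 < k by omega) ?_
    have : (k + 1) ^ 2 = (k + 1 + 1) * k + 1 := by ring
    omega
  set d := P.relIndex N
  have hd : (q + 1) * d = 2 * M * K := by
    have e := index_normalizer_mul P
    rw [hι, hPc, h.card] at e
    refine Nat.eq_of_mul_eq_mul_left hp.pos ?_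
    rw [show q * ((q + 1) * d) = (q + 1) * (q * d) by ring, e]; ring
  have hdlt : d < q := by
    by_contra hlt
    push Not at hlt
    have h1 := Nat.mul_le_mul_left (q + 1) hlt
    rcases h.side with h' | h' <;> nlinarith
  haveI : FaithfulSMul H (H ⧸ N) := ⟨fun {a b} e => by
    have hm : a⁻¹ * b ∈ N.normalCore := fun c => by
      have := e ((c⁻¹ : H) : H ⧸ N)
      rw [MulAction.Quotient.smul_coe, MulAction.Quotient.smul_coe, smul_eq_mul, smul_eq_mul,
        QuotientGroup.eq] at this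
      simpa [mul_assoc] using this
    have hbot : N.normalCore = ⊥ := (normalCore_normal N).eq_bot_or_eq_top.resolve_right fun e => by
      have : N = ⊤ := top_le_iff.1 (e ▸ N.normalCore_le)
      rw [this, index_top] at hι
      omega
    rw [hbot, mem_bot] at hm
    exact inv_mul_eq_one.1 hm⟩
  haveI : Finite (H ⧸ N) := inferInstance
  obtain ⟨a, b, F, hZ, hab, hF, hFc, hD⟩ := Zassenhaus.exists_prime_setup (G := H) (Ω := H ⧸ N)
    (d := d) hp (by rw [← index_eq_card, hι])
    (by rw [h.card, show (q + 1) * q * d = q * ((q + 1) * d) by ring, hd]; ring) hdlt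
  have hΩ : Nat.card (H ⧸ N) = q + 1 := by rw [← index_eq_card, hι]
  rcases h.side with h' | h'
  · have hdK : d = K := by
      rw [h', mul_assoc, mul_assoc] at hd
      exact Nat.eq_of_mul_eq_mul_left (show 0 < M by omega) (by omega)
    obtain ⟨p', f', F', i1, i2, -, -, hcF, hΩ', he⟩ := hZ.identify (by omega) hab
      (by rw [hD, hdK]; exact (even_iff_two_dvd).2 h.K_even) (by rw [hD, hdK, hΩ]; omega)
    exact ⟨F', i1, i2, by omega, he⟩
  · have hdM : d = M := by
      rw [show q + 1 = 2 * K by omega, show 2 * M * K = 2 * K * M by ring] at hd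
      exact Nat.eq_of_mul_eq_mul_left (by omega) hd
    obtain ⟨X, hX, hXc, hXz, hXi, -, -⟩ := h.exists_torus
    set D := twoPt H a b with hDdef
    rw [hdM] at hD
    haveI : Nontrivial F := by rw [← Finite.one_lt_card_iff_nontrivial, hFc]; omega
    obtain ⟨⟨v, hv⟩, hv1⟩ := exists_ne (1 : F)
    have hvo : orderOf v = q := by
      refine ((Nat.dvd_prime hp).1 (hFc ▸ orderOf_dvd_natCard F hv)).resolve_left fun e => ?_
      exact hv1 (Subtype.ext (orderOf_eq_one_iff.1 e))
    have hFv : F = zpowers v := (eq_of_le_of_card_ge (zpowers_le.2 hv)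
      (by rw [hFc, Nat.card_zpowers, hvo])).symm
    have hexp : ∀ k ∈ D, ∃ i : ℤ, k * v * k⁻¹ = v ^ i := fun k hk => by
      obtain ⟨i, hi⟩ := mem_zpowers_iff.1 (hFv ▸ hF.norm k hk.1 v hv)
      exact ⟨i, hi.symm⟩
    have hDab : ∀ k ∈ D, ∀ l ∈ D, k * l = l * k := by
      intro k hk l hl
      obtain ⟨i, hi⟩ := hexp k hk
      obtain ⟨j, hj⟩ := hexp l hl
      have e1 : (k * l) * v * (k * l)⁻¹ = v ^ (i * j) := by
        calc (k * l) * v * (k * l)⁻¹ = k * (l * v * l⁻¹) * k⁻¹ := by group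
          _ = (k * v * k⁻¹) ^ j := by rw [hj, conj_zpow]
          _ = v ^ (i * j) := by rw [hi, ← zpow_mul]
      have e2 : (l * k) * v * (l * k)⁻¹ = v ^ (i * j) := by
        calc (l * k) * v * (l * k)⁻¹ = l * (k * v * k⁻¹) * l⁻¹ := by group
          _ = (l * v * l⁻¹) ^ i := by rw [hi, conj_zpow]
          _ = v ^ (i * j) := by rw [hj, ← zpow_mul, mul_comm]
      set c := (l * k)⁻¹ * (k * l) with hc
      have hcv : c * v = v * c := by
        have e3 : c * v * c⁻¹ = v := by
          calc c * v * c⁻¹ = (l * k)⁻¹ * ((k * l) * v * (k * l)⁻¹) * (l * k) := by rw [hc]; group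
            _ = v := by rw [e1, ← e2]; group
        exact mul_inv_eq_iff_eq_mul.1 e3
      have hcD : c ∈ D := D.mul_mem (D.inv_mem (D.mul_mem hl hk)) (D.mul_mem hk hl)
      have hc1 : c = 1 := by
        refine orderOf_eq_one_iff.1 (Nat.dvd_one.1 (h.cop_qM.gcd_eq_one ▸ Nat.dvd_gcd ?_ ?_))
        · rw [← hcq v hvo]; exact orderOf_dvd_natCard _ (mem_centralizer_singleton_iff.2 hcv)
        · exact hD ▸ orderOf_dvd_natCard D hcD
      exact (inv_mul_eq_one.1 hc1).symm
    haveI : Nontrivial D := by rw [← Finite.one_lt_card_iff_nontrivial, hD]; omega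
    obtain ⟨⟨x, hx⟩, hx1⟩ := exists_ne (1 : D)
    have hxM : x ^ Nat.card X = 1 := by rw [hXc, ← hD]; exact pow_card_of_mem hx
    obtain ⟨g, hg⟩ := hX x hxM fun e => hx1 (Subtype.ext e)
    have hDX : D = X.map (MulAut.conj g).toMonoidHom := by
      rw [← hg]
      exact eq_of_le_of_card_ge (fun y hy => mem_centralizer_singleton_iff.2 (hDab y hy x hx))
        (by rw [hg, card_map_of_injective (MulAut.conj g).injective, hXc, hD])
    have hinv : ∀ s : H, s • a = b → s • b = a → ∀ k ∈ D, s * k * s⁻¹ = k⁻¹ := by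
      intro s hsa hsb
      have hsD : ∀ k ∈ D, s * k * s⁻¹ ∈ D := by
        intro k hk
        have h1 : s⁻¹ • a = b := inv_smul_eq_iff.2 hsb.symm
        have h2 : s⁻¹ • b = a := inv_smul_eq_iff.2 hsa.symm
        exact ⟨by show (s * k * s⁻¹) • a = a; rw [mul_smul, mul_smul, h1, show k • b = b from hk.2, hsb],
          by show (s * k * s⁻¹) • b = b; rw [mul_smul, mul_smul, h2, show k • a = a from hk.1, hsa]⟩
      set u := g⁻¹ * s * g with hu
      have hXm : ∀ y ∈ X, g * y * g⁻¹ ∈ D := fun y hy => by rw [hDX]; exact ⟨y, hy, rfl⟩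
      have hXm' : ∀ y, g * y * g⁻¹ ∈ D → y ∈ X := fun y hy => by
        rw [hDX] at hy
        obtain ⟨z, hz, hze⟩ := hy
        rwa [(MulAut.conj g).injective (show MulAut.conj g z = MulAut.conj g y from hze)] at hz
      have huN : u ∈ normalizer (X : Set H) := by
        refine mem_normalizer_of_map (eq_of_le_of_card_ge ?_
          (by rw [card_map_of_injective (MulAut.conj u).injective]))
        rintro _ ⟨y, hy, rfl⟩
        refine hXm' _ ?_
        show g * (u * y * u⁻¹) * g⁻¹ ∈ D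
        rw [show g * (u * y * u⁻¹) * g⁻¹ = s * (g * y * g⁻¹) * s⁻¹ by rw [hu]; group]
        exact hsD _ (hXm y hy)
      have huX : u ∉ X := fun e => by
        have : s ∈ D := by
          have := hXm u e
          rwa [show g * u * g⁻¹ = s by rw [hu]; group] at this
        exact hab ((show s • a = a from this.1).symm.trans hsa)
      have hu2 : u * u ∈ X :=
        mul_self_mem_of_index_two (H := X.subgroupOf (normalizer (X : Set H))) hXi ⟨u, huN⟩
      have hXab : ∀ y ∈ X, ∀ z ∈ X, z * y = y * z := fun y hy z hz =>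
        ((hXz.symm ▸ hy : y ∈ zc X).2 z hz)
      intro k hk
      rw [hDX] at hk
      obtain ⟨y, hy, rfl⟩ := hk
      have huy : u * y * u⁻¹ ∈ X := (mem_normalizer_iff.1 huN y).1 hy
      set w := u * y * u⁻¹ * y
      have hw : u * w * u⁻¹ = w := by
        calc u * w * u⁻¹ = (u * u) * y * (u * u)⁻¹ * (u * y * u⁻¹) := by
              rw [show w = u * y * u⁻¹ * y from rfl]; group
          _ = y * (u * y * u⁻¹) := by rw [hXab y hy _ hu2, mul_inv_cancel_right]
          _ = w := hXab _ huy _ hy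
      have hw1 : w = 1 := by
        by_contra hne
        refine huX ((hX.cent_eq (hXz.symm ▸ mul_mem huy hy) hne) ▸ ?_)
        exact mem_centralizer_singleton_iff.2 (mul_inv_eq_iff_eq_mul.1 hw)
      have hu' : u * y * u⁻¹ = y⁻¹ := eq_inv_of_mul_eq_one_left hw1
      show s * (g * y * g⁻¹) * s⁻¹ = (g * y * g⁻¹)⁻¹
      calc s * (g * y * g⁻¹) * s⁻¹ = g * (u * y * u⁻¹) * g⁻¹ := by rw [hu]; group
        _ = (g * y * g⁻¹)⁻¹ := by rw [hu']; group
    obtain ⟨p', f', F', i1, i2, -, -, hcF, hΩ', he⟩ := hZ.identify_odd (by omega) hab hF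
      (by rw [hD]; exact h.Modd) (by rw [hD, hΩ]; omega) hinv
    exact ⟨F', i1, i2, by omega, he⟩

theorem iso (F : Type*) [Field F] [Fintype F] (hF : Fintype.card F = q) :
    Nonempty (H ≃* Matrix.ProjectiveSpecialLinearGroup (Fin 2) F) := by
  classical
  haveI := h.isSimple
  have hcard := h.two_card
  suffices hsuff : (∃ (F' : Type) (_ : Field F') (_ : Fintype F'), Fintype.card F' = q ∧
      Nonempty (H ≃* Matrix.ProjectiveSpecialLinearGroup (Fin 2) F')) ∨
      Nonempty (H ≃* Matrix.ProjectiveSpecialLinearGroup (Fin 2) F) by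
    rcases hsuff with ⟨F', _, _, hc, ⟨e⟩⟩ | he
    · obtain ⟨e'⟩ := Classical.Small.psl_congr (n := 2)
        (FiniteField.ringEquivOfCardEq (K := F') (K' := F) (hc.trans hF.symm))
      exact ⟨e.trans e'⟩
    · exact he
  obtain ⟨i, K', hK'2, hKK⟩ := Nat.exists_eq_pow_mul_and_not_dvd
    (show K ≠ 0 by have := h.K_ge; omega) 2 (by norm_num)
  have hK'o : Odd K' := Nat.not_even_iff_odd.1 (fun e => hK'2 (even_iff_two_dvd.1 e))
  rcases eq_or_ne K' 1 with hK1 | hK1
  · subst hK1
    rw [mul_one] at hKK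
    obtain ⟨p, f, hp, hf, hqp⟩ := h.qpow
    have hpo : Odd p := Odd.of_dvd_nat h.qodd (hqp ▸ dvd_pow_self p hf.ne')
    have hpow : p ^ f + 1 = 2 ^ (i + 1) ∨ p ^ f = 2 ^ (i + 1) + 1 := by
      rw [← hqp, pow_succ, ← hKK]
      have := h.hK
      rcases h.side with h' | h'
      · right; omega
      · left; omega
    have hi : 3 ≤ i + 1 := by
      by_contra hlt
      have hle : 2 ^ i ≤ 2 ^ 1 := Nat.pow_le_pow_right two_pos (by omega)
      have := h.K_ge
      omega
    rcases eq_one_or_nine_of_two_pow hp hpo hf hi hpow with rfl | h9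
    · rw [pow_one] at hqp
      exact Or.inl (h.prime_case (hqp ▸ hp) fun r hr hd =>
        (Nat.prime_dvd_prime_iff_eq hr Nat.prime_two).1 (hr.dvd_of_dvd_pow (hKK ▸ hd)))
    · refine Or.inr ?_
      rw [← hqp] at h9
      have h360 : Nat.card H = 360 := by rw [h9] at hcard; omega
      obtain ⟨e1⟩ := SmallOrder.Order360.alt_six h360
      obtain ⟨e2⟩ := S0254.result (F := F) (hF.trans h9)
      exact ⟨e1.trans e2.symm⟩
  · haveI := Fintype.ofFinite H
    obtain ⟨t, s, X, hyp⟩ := h.bsw_hyp hKK hK'o (by have := hK'o.pos; omega)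
    obtain ⟨F', i1, i2, hodd, ⟨e⟩⟩ := BSWAbstract.psl_of_concl h.not_comm (BSWAbstract.concl hyp)
    refine Or.inl ⟨F', i1, i2, ?_, ⟨e⟩⟩
    refine PSLDeg.cube_inj Fintype.card_pos (by have := h.seven; omega) ?_
    rw [← hcard, Nat.card_congr e.toEquiv, ← Classical.A5InPSL.card_psl]
    congr 1
    obtain ⟨j, hj⟩ := hodd
    exact (Nat.gcd_eq_left ⟨j, by omega⟩)

end OddCtx

end Cfsg.Agent.PSLClassSize
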