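import Cfsg.Agent.PSLClassSize.OddG
import Cfsg.Agent.Fusion.UniqueInvolution
import Cfsg.Agent.S5317

/-!
The Sylow 2-subgroups of the extension.
-/

set_option autoImplicit false
set_option linter.style.haveILetI false

namespace Cfsg.Agent.PSLClassSize

open Subgroup

universe u

section Abstract

variable {S : Type*} [Group S]

/-- The dihedral involution centralizer data. -/
structure InvData (j : S) (A : Subgroup S) : Prop where
  conj : ∀ x : S, x * x = 1 → x ≠ 1 → ∃ g : S, g * j * g⁻¹ = x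
  ne : j ≠ 1
  sq : j * j = 1
  le : ∀ t ∈ A, j * t = t * j
  comm : ∀ t ∈ A, ∀ u ∈ A, t * u = u * t
  out : ∃ w : S, j * w = w * j ∧ w ∉ A
  anti : ∀ w : S, j * w = w * j → w ∉ A → w * w = 1 ∧ ∀ t ∈ A, w * t * w⁻¹ = t⁻¹
  uniq : ∀ t ∈ A, t * t = 1 → t = 1 ∨ t = j
  idx : ∀ v w : S, j * v = v * j → j * w = w * j → v ∉ A → w ∉ A → v * w ∈ A

theorem InvData.exists_outside [Finite S] {j : S} {A : Subgroup S} (D : InvData j A)
    (T : Sylow 2 S) : ∃ s ∈ T, s ∉ A := by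
  haveI : Fact (Nat.Prime 2) := ⟨Nat.prime_two⟩
  by_contra hcon
  push Not at hcon
  obtain ⟨w, hw, hwA⟩ := D.out
  have hw2 := (D.anti w hw hwA).1
  have hp : ∀ x : S, x * x = 1 → IsPGroup 2 (zpowers x) := by
    rintro x hx ⟨y, i, rfl⟩
    exact ⟨1, Subtype.ext (by
      show (x ^ i) ^ 2 ^ 1 = 1
      rw [← zpow_natCast, ← zpow_mul, mul_comm, zpow_mul, zpow_natCast, pow_one, pow_two, hx, one_zpow])⟩
  have hnorm : zpowers w ≤ normalizer ((zpowers j : Subgroup S) : Set S) := by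
    rw [zpowers_le, mem_normalizer_iff_map_conj_eq, MonoidHom.map_zpowers]
    congr 1
    show w * j * w⁻¹ = j
    rw [← hw, mul_inv_cancel_right]
  obtain ⟨T', hT'⟩ := (IsPGroup.to_sup_of_normal_left' (hp j D.sq) (hp w hw2) hnorm).exists_le_sylow
  obtain ⟨g, hg⟩ := MulAction.exists_smul_eq S T T'
  have hmem : ∀ x, x ∈ zpowers j ⊔ zpowers w → x * x = 1 → x ≠ 1 → g⁻¹ * x * g = j := by
    intro x hx hx2 hx1
    have hm : x ∈ ((g • T : Sylow 2 S) : Subgroup S) := hg.symm ▸ hT' hx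
    obtain ⟨y, hy, rfl⟩ := hm
    show g⁻¹ * (g * y * g⁻¹) * g = j
    rw [show g⁻¹ * (g * y * g⁻¹) * g = y by group]
    refine (D.uniq y (hcon y hy) ((MulAut.conj g).injective ?_)).resolve_left fun e => hx1 ?_
    · rw [map_mul, map_one]; exact hx2
    · rw [e]; simp
  have e1 := hmem j (mem_sup_left (mem_zpowers j)) D.sq D.ne
  have e2 := hmem w (mem_sup_right (mem_zpowers w)) hw2 (fun e => hwA (e ▸ one_mem A))
  have hwj : w = j := mul_left_cancel (mul_right_cancel (e2.trans e1.symm))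
  obtain ⟨y, hy, hyj⟩ : j ∈ ((g • T : Sylow 2 S) : Subgroup S) :=
    hg.symm ▸ hT' (mem_sup_left (mem_zpowers j))
  have hy2 : y * y = 1 := (MulAut.conj g).injective (by
    rw [map_mul, map_one, show MulAut.conj g y = j from hyj, D.sq])
  have hyj' : y = j := (D.uniq y (hcon y hy) hy2).resolve_left fun e => D.ne (by
    rw [← hyj, e]; simp)
  exact hwA (hwj ▸ hyj' ▸ hcon y hy)

theorem InvData.exists_sylow_le [Finite S] {j : S} {A : Subgroup S} (D : InvData j A) :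
    ∃ T : Sylow 2 S, ∀ x ∈ T, j * x = x * j := by
  haveI : Fact (Nat.Prime 2) := ⟨Nat.prime_two⟩
  obtain ⟨T⟩ : Nonempty (Sylow 2 S) := inferInstance
  haveI : Nontrivial (T : Subgroup S) := by
    refine (nontrivial_iff_ne_bot _).2 (T.ne_bot_of_dvd_card ?_)
    rw [← orderOf_eq_prime (p := 2) (by rw [pow_two]; exact D.sq) D.ne]
    exact orderOf_dvd_natCard j
  haveI : Nontrivial (center (T : Subgroup S)) := T.2.center_nontrivial
  obtain ⟨k, hk⟩ := (T.2.to_subgroup (center (T : Subgroup S))).exists_card_eq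
  have hk0 : k ≠ 0 := fun e => by
    have := Finite.one_lt_card (α := center (T : Subgroup S))
    rw [hk, e, pow_zero] at this
    omega
  obtain ⟨⟨⟨t, htT⟩, htZ⟩, hto⟩ :=
    exists_prime_orderOf_dvd_card' (G := center (T : Subgroup S)) 2 (hk ▸ dvd_pow_self 2 hk0)
  rw [← Subgroup.orderOf_coe, ← Subgroup.orderOf_coe] at hto
  change orderOf t = 2 at hto
  obtain ⟨g, hg⟩ := D.conj t (by rw [← pow_two, ← hto]; exact pow_orderOf_eq_one t)
    (fun e => by rw [e, orderOf_one] at hto; omega)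
  refine ⟨g⁻¹ • T, ?_⟩
  rintro x ⟨y, hy, rfl⟩
  have h : y * t = t * y := congrArg Subtype.val (mem_center_iff.1 htZ ⟨y, hy⟩)
  show j * (g⁻¹ * y * g⁻¹⁻¹) = g⁻¹ * y * g⁻¹⁻¹ * j
  rw [inv_inv, show j * (g⁻¹ * y * g) = g⁻¹ * (t * y) * g by rw [← hg]; group, ← h, ← hg]
  group

theorem InvData.cent_elem [Finite S] {j : S} {A : Subgroup S} (D : InvData j A) {x : S} {r : ℕ}
    (hr : r.Prime) (hr2 : r ≠ 2) (hx : x ≠ 1) (hxr : ∃ k, orderOf x ∣ r ^ k) :
    ¬ ∀ T : Sylow 2 S, ∃ g : S, ∀ t ∈ T, Commute (g * t * g⁻¹) x := by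
  intro hall
  obtain ⟨T, hT⟩ := D.exists_sylow_le
  obtain ⟨s, hsT, hsA⟩ := D.exists_outside T
  obtain ⟨g, hg⟩ := hall T
  set y := g⁻¹ * x * g with hy
  have hcomm : ∀ t ∈ T, Commute t y := fun t ht => by
    have h : g * t * g⁻¹ * x = x * (g * t * g⁻¹) := hg t ht
    show t * (g⁻¹ * x * g) = g⁻¹ * x * g * t
    calc t * (g⁻¹ * x * g) = g⁻¹ * (g * t * g⁻¹ * x) * g := by group
      _ = g⁻¹ * x * g * t := by rw [h]; group
  have hyo : orderOf y = orderOf x := by
    rw [hy, ← MulEquiv.orderOf_eq (MulAut.conj g⁻¹) x, MulAut.conj_apply, inv_inv]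
  have hy1 : y ≠ 1 := fun e => hx (orderOf_eq_one_iff.1 (by rw [← hyo, e, orderOf_one]))
  have hjy : j * y = y * j := by
    obtain ⟨g', -⟩ := D.conj j D.sq D.ne
    have hjT : j ∈ (T : Subgroup S) := by
      have hn : zpowers j ≤ normalizer ((T : Subgroup S) : Set S) := by
        rw [zpowers_le, mem_normalizer_iff]
        intro t
        constructor
        · intro ht; rwa [hT t ht, mul_inv_cancel_right]
        · intro ht
          have := hT _ ht
          rw [show j * (j * t * j⁻¹) = j * j * t * j⁻¹ by group, D.sq, one_mul,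
            inv_mul_cancel_right, inv_eq_of_mul_eq_one_right D.sq] at this
          have h2 : t = j * t * j⁻¹ := by
            rw [inv_eq_of_mul_eq_one_right D.sq]
            calc t = (t * j) * j := by rw [mul_assoc, D.sq, mul_one]
              _ = j * t * j := by rw [this]
          rw [h2]; exact ht
      have hjp : IsPGroup 2 (zpowers j) := by
        rintro ⟨_, i, rfl⟩
        exact ⟨1, Subtype.ext (by
          show (j ^ i) ^ 2 ^ 1 = 1
          rw [← zpow_natCast, ← zpow_mul, mul_comm, zpow_mul, zpow_natCast, pow_one, pow_two, D.sq,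
            one_zpow])⟩
      have hsup := IsPGroup.to_sup_of_normal_left' T.2 hjp hn
      have := T.3 hsup le_sup_left
      exact this ▸ mem_sup_right (mem_zpowers j)
    exact (hcomm j hjT).eq
  obtain ⟨k, hk⟩ := hxr
  rw [← hyo] at hk
  have hcop : Nat.Coprime (orderOf y) 2 :=
    (Nat.Coprime.pow_left k ((Nat.coprime_primes hr Nat.prime_two).2 hr2)).coprime_dvd_left hk
  have kill : y * y = 1 → False := fun e => hy1 (orderOf_eq_one_iff.1
    (hcop.eq_one_of_dvd (orderOf_dvd_of_pow_eq_one (by rw [pow_two]; exact e))))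
  have hyA : y ∈ A := by
    by_contra hyA
    exact kill (D.anti y hjy hyA).1
  have hinv := (D.anti s (hT s hsT) hsA).2 y hyA
  rw [(hcomm s hsT).eq, mul_inv_cancel_right] at hinv
  exact kill (by nth_rewrite 2 [hinv]; exact mul_inv_cancel y)

end Abstract

variable {G : Type u} [Group G] [Finite G] {q M K : ℕ}

theorem OddExt.eq_one_two {S : Type*} [Group S] [Finite S] (X : OddExt G q M K)
    (e : G ⧸ center G ≃* S) {j : S} {A : Subgroup S} (D : InvData j A)
    {z : G} (hz : z ∈ commutator G) (hzc : z ∈ center G) (hzp : PP 2 z) : z = 1 := by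
  haveI : Fact (Nat.Prime 2) := ⟨Nat.prime_two⟩
  have hcardH := X.ctx.card
  have hK4 := X.ctx.K_ge
  set f : G →* S := e.toMonoidHom.comp prj with hfdef
  have hf : Function.Surjective f := e.surjective.comp (QuotientGroup.mk'_surjective _)
  have hfe : ∀ x, f x = e (prj x) := fun _ => rfl
  have hf1 : ∀ x, f x = 1 ↔ x ∈ center G := fun x => by
    rw [hfe, ← prj_eq_one]
    exact ⟨fun h => e.injective (h.trans (map_one e).symm), fun h => by rw [h, map_one]⟩
  obtain ⟨r, g, hr, hg, hgc, hgd⟩ := X.dex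
  obtain ⟨hgim, hgcard⟩ := X.dlift r g hr hg hgc hgd
  -- the element of class size `q * M` is a 2-element
  obtain rfl : r = 2 := by
    by_contra hr2
    refine D.cent_elem hr hr2 (x := f g) (fun h => hgc ((hf1 g).1 h)) (hg.map f) fun T => ?_
    set C := centralizer ({f g} : Set S) with hC
    have hCc : Nat.card C = 2 * K := by
      have e' : C = (centralizer ({prj g} : Set (G ⧸ center G))).map e.toMonoidHom := by
        ext y
        rw [mem_map_equiv, mem_cent, mem_cent]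
        constructor
        · intro h
          have := h.map e.symm.toMonoidHom
          simpa [hfe] using this
        · intro h
          have := h.map e.toMonoidHom
          simpa [hfe] using this
      rw [e', card_map_of_injective e.injective, hgcard]
    obtain ⟨R⟩ : Nonempty (Sylow 2 C) := inferInstance
    have hRi : ¬ 2 ∣ ((R : Subgroup C).map C.subtype).index := by
      rw [index_map_subtype]
      intro hd
      refine (Nat.prime_two.dvd_mul.1 hd).elim R.not_dvd_index fun hd' => ?_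
      have e1 := C.card_mul_index
      rw [hCc, ← Nat.card_congr e.toEquiv, hcardH] at e1
      have e2 : C.index = q * M := Nat.eq_of_mul_eq_mul_left (show 0 < 2 * K by omega)
        (e1.trans (by ring))
      rw [e2] at hd'
      exact (X.ctx.qodd.mul X.ctx.Modd).not_two_dvd_nat hd'
    obtain ⟨k, hk⟩ := MulAction.exists_smul_eq S T ((R.2.map _).toSylow hRi)
    refine ⟨k, fun t ht => ?_⟩
    have hm : k * t * k⁻¹ ∈ ((k • T : Sylow 2 S) : Subgroup S) := ⟨t, ht, rfl⟩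
    rw [hk] at hm
    obtain ⟨c, -, hc⟩ := hm
    rw [← hc]
    exact mem_cent.1 c.2
  -- every lift of an involution
  obtain ⟨i, hio⟩ : ∃ i : ℕ, orderOf (prj g ^ i) = 2 := by
    obtain ⟨k, hk⟩ := hg.map prj
    obtain ⟨l, -, hl⟩ := (Nat.dvd_prime_pow Nat.prime_two).1 hk
    have hl0 : l ≠ 0 := fun e => hgc (prj_eq_one.1 (orderOf_eq_one_iff.1 (by rw [hl, e, pow_zero])))
    exact ⟨_, orderOf_pow_orderOf_div (orderOf_pos (prj g)).ne' (hl ▸ dvd_pow_self 2 hl0)⟩
  set x₀ := g ^ i with hx₀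
  have hx₀c : x₀ ∉ center G := fun hc => by
    rw [← map_pow, prj_eq_one.2 hc, orderOf_one] at hio; omega
  have hx₀m : x₀ ∈ zpowers g := Subgroup.pow_mem _ (mem_zpowers g) _
  have hx₀p : PP 2 x₀ := by
    obtain ⟨k, hk⟩ := hg
    exact ⟨k, (orderOf_dvd_of_mem_zpowers hx₀m).trans hk⟩
  have hx₀d : idx x₀ = q * M :=
    X.dbot x₀ hx₀c (hgd ▸ idx_dvd_of_cent_le (cent_le_of_mem_zpowers hx₀m))
  have hx₀f : f x₀ * f x₀ = 1 ∧ f x₀ ≠ 1 := by
    refine ⟨?_, fun h => hx₀c ((hf1 _).1 h)⟩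
    have h := pow_orderOf_eq_one (prj g ^ i)
    rw [hio, pow_two, ← map_pow] at h
    rw [hfe, ← map_mul e, h, map_one]
  have hlift : ∀ a b : G, f a * f a = 1 → f a ≠ 1 → Commute (f a) (f b) → Commute a b := by
    intro a b ha ha1 hab
    obtain ⟨u, hu⟩ := D.conj (f a) ha ha1
    obtain ⟨v, hv⟩ := D.conj (f x₀) hx₀f.1 hx₀f.2
    obtain ⟨k, hk⟩ := hf (u * v⁻¹)
    set x₁ := k * x₀ * k⁻¹ with hx₁
    have hf₁ : f x₁ = f a := by
      rw [hx₁, map_mul, map_mul, map_inv, hk, ← hv, ← hu]; group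
    have h1 := (X.dlift 2 x₁ Nat.prime_two (hx₀p.conj k) (not_center_conj hx₀c)
      (by rw [hx₁, idx_conj, hx₀d])).1
    have hm : prj b ∈ centralizer ({prj x₁} : Set (G ⧸ center G)) :=
      mem_cent.2 (e.injective ((map_mul e _ _).trans (Eq.trans
        (show f b * f x₁ = f x₁ * f b by rw [hf₁]; exact hab.symm.eq) (map_mul e _ _).symm)))
    rw [h1] at hm
    obtain ⟨c, hc, hcb⟩ := hm
    have hb : Commute b x₁ := by
      have hcz : c⁻¹ * b ∈ center G := QuotientGroup.eq.1 hcb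
      have := (mem_cent.1 hc).mul_left (mem_center_iff.1 hcz x₁).symm
      rwa [mul_inv_cancel_left] at this
    have haz : x₁⁻¹ * a ∈ center G := (hf1 _).1 (by rw [map_mul, map_inv, hf₁, inv_mul_cancel])
    have := hb.mul_right (mem_center_iff.1 haz b)
    rw [mul_inv_cancel_left] at this
    exact this.symm
  -- a good Sylow subgroup
  obtain ⟨T, hT⟩ := D.exists_sylow_le
  obtain ⟨P, hP⟩ := Sylow.mapSurjective_surjective hf 2 T
  have hPT : ∀ x ∈ P, f x ∈ T := fun x hx => hP ▸ ⟨x, hx, rfl⟩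
  have hTP : ∀ y ∈ T, ∃ x ∈ P, f x = y := fun y hy => by
    rw [← hP] at hy
    exact hy
  obtain ⟨s₁, hs₁T, hs₁A⟩ := D.exists_outside T
  obtain ⟨s, hsP, hsf⟩ := hTP s₁ hs₁T
  have hcyc : IsCyclic ((T : Subgroup S) ⊓ A : Subgroup S) := by
    refine Fusion.isCyclic_of_unique (p := 2) (fun x => ?_)
      ⟨⟨fun x y => Subtype.ext (D.comm x x.2.2 y y.2.2)⟩⟩ ?_
    · obtain ⟨k, hk⟩ := T.2 ⟨x, x.2.1⟩
      exact ⟨k, Subtype.ext (congrArg (fun y : (T : Subgroup S) => (y : S)) hk)⟩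
    · intro u hu v hv hvo hu2
      rw [pow_two] at hu2
      rcases D.uniq u hu.2 hu2 with e' | e'
      · rw [e']; exact one_mem _
      · have hv2 : v = j := (D.uniq v hv.2 (by
          rw [← pow_two, ← hvo]; exact pow_orderOf_eq_one v)).resolve_left fun e' => by
            rw [e', orderOf_one] at hvo; omega
        rw [e', hv2]; exact mem_zpowers j
  obtain ⟨⟨ρ, hρ⟩, hgen⟩ := hcyc.exists_zpow_surjective
  obtain ⟨r₁, -, hr₁⟩ := hTP ρ hρ.1
  let L : Subgroup G := (P : Subgroup G) ⊓ A.comap f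
  have hLdec : ∀ a ∈ L, ∃ (i : ℤ) (c : G), c ∈ center G ∧ a = r₁ ^ i * c := by
    intro a ha
    obtain ⟨i, hi⟩ := hgen ⟨f a, hPT a ha.1, ha.2⟩
    have hi : ρ ^ i = f a := congrArg Subtype.val hi
    refine ⟨i, (r₁ ^ i)⁻¹ * a, (hf1 _).1 ?_, by group⟩
    rw [map_mul, map_inv, map_zpow, hr₁, hi, inv_mul_cancel]
  have hLab : ∀ a ∈ L, ∀ b ∈ L, Commute a b := by
    intro a ha b hb
    obtain ⟨i, c, hc, rfl⟩ := hLdec a ha
    obtain ⟨i', c', hc', rfl⟩ := hLdec b hb
    exact (((Commute.refl r₁).zpow_zpow i i').mul_right (mem_center_iff.1 hc' _)).mul_left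
      (mem_center_iff.1 hc _).symm
  have hjs₁ : j * s₁ = s₁ * j := hT s₁ hs₁T
  have hdec : ∀ x ∈ (P : Subgroup G), x ∈ L ∨ ∃ a ∈ L, x = a * s := by
    intro x hx
    by_cases hxA : f x ∈ A
    · exact Or.inl ⟨hx, hxA⟩
    refine Or.inr ⟨x * s⁻¹, ⟨(P : Subgroup G).mul_mem hx ((P : Subgroup G).inv_mem hsP), ?_⟩, by group⟩
    show f (x * s⁻¹) ∈ A
    rw [map_mul, map_inv, hsf]
    exact D.idx _ _ (hT _ (hPT x hx)) (by
      rw [inv_eq_of_mul_eq_one_right (D.anti s₁ hjs₁ hs₁A).1]; exact hjs₁) hxA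
      (fun h' => hs₁A (by simpa using inv_mem h'))
  have hLnorm : ∀ a ∈ L, s * a * s⁻¹ ∈ L := by
    intro a ha
    refine ⟨(P : Subgroup G).mul_mem ((P : Subgroup G).mul_mem hsP ha.1) ((P : Subgroup G).inv_mem hsP), ?_⟩
    show f (s * a * s⁻¹) ∈ A
    rw [map_mul, map_mul, map_inv, hsf, (D.anti s₁ hjs₁ hs₁A).2 _ ha.2]
    exact inv_mem ha.2
  let ψ : L →* G :=
    { toFun := fun a => (a : G) * s * (a : G)⁻¹ * s⁻¹
      map_one' := by simp
      map_mul' := fun a b => by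
        have hb' : (b : G) * s * (b : G)⁻¹ * s⁻¹ ∈ L := by
          have h1 := L.mul_mem b.2 (hLnorm _ (inv_mem b.2))
          rwa [show (b : G) * (s * (b : G)⁻¹ * s⁻¹) = (b : G) * s * (b : G)⁻¹ * s⁻¹ by group] at h1
        have ha' : (a : G) * s * (a : G)⁻¹ * s⁻¹ ∈ L := by
          have h1 := L.mul_mem a.2 (hLnorm _ (inv_mem a.2))
          rwa [show (a : G) * (s * (a : G)⁻¹ * s⁻¹) = (a : G) * s * (a : G)⁻¹ * s⁻¹ by group] at h1
        show ((a : G) * b) * s * ((a : G) * b)⁻¹ * s⁻¹ = _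
        calc ((a : G) * b) * s * ((a : G) * b)⁻¹ * s⁻¹
            = ((a : G) * ((b : G) * s * (b : G)⁻¹ * s⁻¹) * (a : G)⁻¹) *
              ((a : G) * s * (a : G)⁻¹ * s⁻¹) := by group
          _ = ((b : G) * s * (b : G)⁻¹ * s⁻¹) * ((a : G) * s * (a : G)⁻¹ * s⁻¹) := by
              rw [(hLab _ a.2 _ hb').eq, mul_inv_cancel_right]
          _ = _ := (hLab _ hb' _ ha').eq }
  have hcommle : ⁅(P : Subgroup G), (P : Subgroup G)⁆ ≤ ψ.range := by
    rw [commutator_le]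
    intro x hx y hy
    rw [commutatorElement_def]
    rcases hdec x hx with ha | ⟨a, ha, rfl⟩ <;> rcases hdec y hy with hb | ⟨b, hb, rfl⟩
    · rw [(hLab x ha y hb).eq, mul_inv_cancel_right, mul_inv_cancel]; exact one_mem _
    · refine ⟨⟨x, ha⟩, ?_⟩
      show x * s * x⁻¹ * s⁻¹ = _
      have h1 : x * s * x⁻¹ * s⁻¹ ∈ L := by
        have h1 := L.mul_mem ha (hLnorm _ (inv_mem ha))
        rwa [show x * (s * x⁻¹ * s⁻¹) = x * s * x⁻¹ * s⁻¹ by group] at h1
      calc x * s * x⁻¹ * s⁻¹ = b * (x * s * x⁻¹ * s⁻¹) * b⁻¹ := by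
            rw [(hLab b hb _ h1).eq, mul_inv_cancel_right]
        _ = (b * x) * s * x⁻¹ * s⁻¹ * b⁻¹ := by group
        _ = (x * b) * s * x⁻¹ * s⁻¹ * b⁻¹ := by rw [(hLab b hb x ha).eq]
        _ = _ := by group
    · refine ⟨⟨y⁻¹, inv_mem hb⟩, ?_⟩
      show y⁻¹ * s * y⁻¹⁻¹ * s⁻¹ = _
      have h1 : s * y * s⁻¹ ∈ L := hLnorm y hb
      calc y⁻¹ * s * y⁻¹⁻¹ * s⁻¹ = y⁻¹ * (s * y * s⁻¹) := by group
        _ = (s * y * s⁻¹) * y⁻¹ := (hLab _ (inv_mem hb) _ h1).eq
        _ = a * (s * y * s⁻¹) * a⁻¹ * y⁻¹ := by rw [(hLab a ha _ h1).eq, mul_inv_cancel_right]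
        _ = _ := by group
    · refine ⟨⟨a * b⁻¹, mul_mem ha (inv_mem hb)⟩, ?_⟩
      show a * b⁻¹ * s * (a * b⁻¹)⁻¹ * s⁻¹ = _
      have h1 : s * (b * a⁻¹) * s⁻¹ ∈ L := hLnorm _ (mul_mem hb (inv_mem ha))
      calc a * b⁻¹ * s * (a * b⁻¹)⁻¹ * s⁻¹ = a * (b⁻¹ * (s * (b * a⁻¹) * s⁻¹)) := by group
        _ = a * ((s * (b * a⁻¹) * s⁻¹) * b⁻¹) := by rw [(hLab _ (inv_mem hb) _ h1).eq]
        _ = _ := by group
  obtain ⟨⟨a, ha⟩, hza⟩ := hcommle (mem_commutator_sylow Nat.prime_two P hz hzc hzp)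
  change a * s * a⁻¹ * s⁻¹ = z at hza
  have hfa : f a * s₁ * (f a)⁻¹ * s₁⁻¹ = 1 := by
    rw [← hsf, ← map_inv, ← map_mul, ← map_inv, ← map_mul, ← map_mul, hza]
    exact (hf1 z).2 hzc
  have h2 : f a * f a = 1 := by
    have h3 := (D.anti s₁ hjs₁ hs₁A).2 _ (inv_mem ha.2)
    rw [inv_inv] at h3
    calc f a * f a = f a * (s₁ * (f a)⁻¹ * s₁⁻¹) := by rw [h3]
      _ = f a * s₁ * (f a)⁻¹ * s₁⁻¹ := by group
      _ = 1 := hfa
  have hcs : Commute a s := by
    by_cases h1 : f a = 1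
    · exact (mem_center_iff.1 ((hf1 a).1 h1) s).symm
    · refine hlift a s h2 h1 ?_
      rw [hsf]
      exact commutatorElement_eq_one_iff_commute.1 (by rw [commutatorElement_def]; exact hfa)
  rw [← hza, hcs.eq, mul_inv_cancel_right, mul_inv_cancel]

end Cfsg.Agent.PSLClassSize
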