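import Cfsg.Agent.PSLClassSize.EvenG
import Cfsg.Agent.PSLClassSize.OddIso
import Cfsg.Agent.PSLClassSize.OddTwo
import Cfsg.Agent.S2507
import Cfsg.Agent.S2508

/-!
Groups with the class sizes of `PSL(2, q)`.
-/

set_option autoImplicit false
set_option linter.style.haveILetI false

namespace Cfsg.Agent.PSLClassSize

open Subgroup Matrix

universe u v

variable {G : Type u} [Group G] [Finite G] {F : Type v} [Field F] [Fintype F]

theorem ext_main
    (hq : (2 ∣ Fintype.card F ∧ 2 < Fintype.card F) ∨ (¬ 2 ∣ Fintype.card F ∧ 7 ≤ Fintype.card F))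
    (h : Set.range (fun g : G => (Subgroup.centralizer ({g} : Set G)).index) =
      Set.range (fun g : (Matrix.ProjectiveSpecialLinearGroup (Fin 2) F) =>
        (Subgroup.centralizer ({g} : Set (Matrix.ProjectiveSpecialLinearGroup (Fin 2) F))).index)) :
    ∃ _e : G ⧸ center G ≃* Matrix.ProjectiveSpecialLinearGroup (Fin 2) F,
      ∀ r : ℕ, r.Prime → ∀ z : G, z ∈ commutator G → z ∈ center G → PP r z → z = 1 := by
  classical
  set q := Fintype.card F with hqdef
  rcases hq with ⟨h2, h2'⟩ | ⟨h2, h7⟩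
  · have h4 : 4 ≤ q := by obtain ⟨j, hj⟩ := h2; omega
    rw [S2507.result (F := F) h2 h4] at h
    exact even_main h2 h4 fun m => Set.ext_iff.1 h m
  haveI : Finite (Matrix.ProjectiveSpecialLinearGroup (Fin 2) F) :=
    Finite.of_surjective _ (QuotientGroup.mk'_surjective _)
  obtain ⟨n, hp, hn⟩ := FiniteField.card F (ringChar F)
  set p := ringChar F
  haveI : Fact p.Prime := ⟨hp⟩
  haveI : CharP F p := ringChar.charP F
  have hodd : Odd q := Nat.not_even_iff_odd.1 fun he => h2 he.two_dvd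
  obtain ⟨hside1, hside3⟩ := S2508.result (F := F) h2 h7
  have hext : ∃ M K, OddExt G q M K := by
    obtain ⟨j, hj⟩ := hodd
    rcases Nat.even_or_odd j with ⟨i, hi⟩ | ⟨i, hi⟩
    · -- one modulo four
      refine ⟨2 * i + 1, 2 * i, odd_ext hp hn h7 ⟨j, hj⟩ (Or.inl (by omega)) ⟨i, rfl⟩ (by omega)
        fun m => ?_⟩
      rw [hside1 (show q % 4 = 1 by omega)] at h
      refine (Set.ext_iff.1 h m).trans ?_
      rw [show Fintype.card F = q from rfl]
      obtain rfl : j = 2 * i := by omega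
      have e1 : (q ^ 2 - 1) / 2 = 2 * (2 * i + 1) * (2 * i) := by
        rw [hj, show (2 * (2 * i) + 1) ^ 2 = 2 * (2 * (2 * i + 1) * (2 * i)) + 1 by ring,
          Nat.add_sub_cancel, Nat.mul_div_cancel_left _ two_pos]
      have e2 : q * (q + 1) / 2 = q * (2 * i + 1) := by
        rw [show q + 1 = 2 * (2 * i + 1) by omega, mul_left_comm, Nat.mul_div_cancel_left _ two_pos]
      have e3 : q * (q - 1) = 2 * q * (2 * i) := by
        rw [show q - 1 = 2 * (2 * i) by omega]; ring
      have e4 : q * (q + 1) = 2 * q * (2 * i + 1) := by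
        rw [show q + 1 = 2 * (2 * i + 1) by omega]; ring
      rw [e1, e2, e3, e4]
    · refine ⟨2 * i + 1, 2 * i + 2, odd_ext hp hn h7 ⟨j, hj⟩ (Or.inr (by omega)) ⟨i, rfl⟩ (by omega)
        fun m => ?_⟩
      rw [hside3 (show q % 4 = 3 by omega)] at h
      refine (Set.ext_iff.1 h m).trans ?_
      rw [show Fintype.card F = q from rfl]
      subst hi
      have e1 : (q ^ 2 - 1) / 2 = 2 * (2 * i + 1) * (2 * i + 2) := by
        rw [hj, show (2 * (2 * i + 1) + 1) ^ 2 = 2 * (2 * (2 * i + 1) * (2 * i + 2)) + 1 by ring,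
          Nat.add_sub_cancel, Nat.mul_div_cancel_left _ two_pos]
      have e2 : q * (q - 1) / 2 = q * (2 * i + 1) := by
        rw [show q - 1 = 2 * (2 * i + 1) by omega, mul_left_comm, Nat.mul_div_cancel_left _ two_pos]
      have e3 : q * (q + 1) = 2 * q * (2 * i + 2) := by
        rw [show q + 1 = 2 * (2 * i + 2) by omega]; ring
      have e4 : q * (q - 1) = 2 * q * (2 * i + 1) := by
        rw [show q - 1 = 2 * (2 * i + 1) by omega]; ring
      rw [e1, e2, e3, e4]
  obtain ⟨M, K, X⟩ := hext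
  obtain ⟨e⟩ := X.ctx.iso F rfl
  refine ⟨e, fun r hr z hz hzc hzp => ?_⟩
  rcases eq_or_ne r 2 with rfl | hr2
  · have h2F : (2 : F) ≠ 0 := S5317.two_ne_zero' (Nat.odd_iff.1 hodd)
    have hodd' : Fintype.card F % 2 = 1 := Nat.odd_iff.1 hodd
    exact X.eq_one_two e ⟨S5317.invol_conj hodd', S5317.jbar_ne h2F, S5317.jbar_sq F,
      S5317.tbar_le F, S5317.tbar_comm F, S5317.tbar_ne_top h2F, S5317.d_anti F,
      S5317.tbar_invol h2F, S5317.d_mul F⟩ hz hzc hzp
  · exact eq_one_of_lift (p := p) hr (Or.inr hr2) e (fun w hw hwc => X.lift r w hr hr2 hw hwc)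
      hz hzc hzp

theorem central_quotient
    (hq : (2 ∣ Fintype.card F ∧ 2 < Fintype.card F) ∨ (¬ 2 ∣ Fintype.card F ∧ 7 ≤ Fintype.card F))
    (h : Set.range (fun g : G => (Subgroup.centralizer ({g} : Set G)).index) =
      Set.range (fun g : (Matrix.ProjectiveSpecialLinearGroup (Fin 2) F) =>
        (Subgroup.centralizer ({g} : Set (Matrix.ProjectiveSpecialLinearGroup (Fin 2) F))).index)) :
    Nonempty (G ⧸ center G ≃* Matrix.ProjectiveSpecialLinearGroup (Fin 2) F) :=
  let ⟨e, _⟩ := ext_main hq h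
  ⟨e⟩

end Cfsg.Agent.PSLClassSize
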