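import Cfsg.Agent.PSLClassSize.OddSimple
import Cfsg.Agent.BSWAbstract.Main

/-!
The hypotheses of the theorem of Brauer, Suzuki and Wall, when `K` is not a power of two.
-/

set_option autoImplicit false
set_option linter.style.haveILetI false

namespace Cfsg.Agent.PSLClassSize

open Subgroup

universe u

variable {H : Type u} [Group H] {q M K : ℕ}

theorem mem_of_odd_order {U X : Subgroup H} (hle : X ≤ U) (hi : X.relIndex U ≤ 2) [Finite H] {b : H}
    (hb : b ∈ U) {m : ℕ} (hbm : b ^ m = 1) (hm : Odd m) : b ∈ X := by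
  have hsq : b * b ∈ X := by
    have h0 : 0 < X.relIndex U := Nat.pos_of_ne_zero index_ne_zero_of_finite
    rcases (by omega : X.relIndex U = 1 ∨ X.relIndex U = 2) with h | h
    · exact X.mul_mem (relIndex_eq_one.1 h hb) (relIndex_eq_one.1 h hb)
    · have := mul_self_mem_of_index_two (H := X.subgroupOf U) h ⟨b, hb⟩
      exact this
  obtain ⟨j, rfl⟩ := hm
  have h2 : b = (b * b) ^ (j + 1) := by
    rw [← pow_two, ← pow_mul, show 2 * (j + 1) = (2 * j + 1) + 1 by ring, pow_succ, hbm, one_mul]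
  rw [h2]
  exact X.pow_mem hsq _

/-- A conjugation invariant set of non-trivial elements killed by `2 * K` has size divisible by
`q * M`. -/
theorem OddCtx.dvd_invariant [Finite H] (h : OddCtx H q M K) (P : H → Prop)
    (hinv : ∀ g x, P x → P (g * x * g⁻¹))
    (hP : ∀ x, P x → Nat.card (centralizer ({x} : Set H)) = K ∨
      Nat.card (centralizer ({x} : Set H)) = 2 * K) :
    q * M ∣ Nat.card {x : H // P x} := by
  classical
  haveI := Fintype.ofFinite H
  letI : MulAction H {x : H // P x} :=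
    { smul := fun g x => ⟨g * x * g⁻¹, hinv g x x.2⟩
      one_smul := fun x => Subtype.ext (show (1 : H) * x * (1 : H)⁻¹ = x by simp)
      mul_smul := fun g g' x => Subtype.ext (show g * g' * x * (g * g')⁻¹ =
        g * (g' * x * g'⁻¹) * g⁻¹ by group) }
  rw [Nat.card_congr (MulAction.selfEquivSigmaOrbits H {x : H // P x}), Nat.card_sigma]
  refine Finset.dvd_sum fun ω _ => ?_
  have he : MulAction.stabilizer H ω.out = centralizer ({(ω.out : H)} : Set H) := by
    ext g
    rw [MulAction.mem_stabilizer_iff, mem_centralizer_singleton_iff]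
    refine Subtype.ext_iff.trans ?_
    show g * (ω.out : H) * g⁻¹ = ω.out ↔ _
    exact mul_inv_eq_iff_eq_mul
  rw [Nat.card_coe_set_eq, ← MulAction.index_stabilizer, he]
  have hm := card_mul_index (centralizer ({(ω.out : H)} : Set H))
  rw [h.card] at hm
  have hK := h.K_ge
  rcases hP _ ω.out.2 with e | e <;> rw [e] at hm
  · exact ⟨2, Nat.eq_of_mul_eq_mul_left (show 0 < K by omega) (hm.trans (by ring))⟩
  · exact dvd_of_eq (Nat.eq_of_mul_eq_mul_left (show 0 < 2 * K by omega) (hm.trans (by ring))).symm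

namespace OddCtx

variable [Finite H] (h : OddCtx H q M K)
include h

theorem cent_cases {x : H} (hx : x ≠ 1) (hp : x ^ (2 * K) = 1) :
    Nat.card (centralizer ({x} : Set H)) = K ∨ Nat.card (centralizer ({x} : Set H)) = 2 * K := by
  obtain ⟨r, hr, hrx⟩ := Nat.exists_prime_and_dvd (mt orderOf_eq_one_iff.1 hx)
  have hrK : r ∣ 2 * K := hrx.trans (orderOf_dvd_of_pow_eq_one hp)
  obtain ⟨y, hy, hyo⟩ := exists_prime_pow_elem hr hrx
  have hd := card_dvd_of_le (cent_le_zpow hy)
  have hd2 : Nat.card (centralizer ({x} : Set H)) ∣ 2 * K := by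
    rcases h.pp r y hr (ne_one_of_order hr hyo) (pp_self hyo) with ⟨e, -⟩ | ⟨e, -⟩ | ⟨-, e | e⟩
    · exact (hr.not_dvd_one (h.cop_qK.gcd_eq_one ▸ Nat.dvd_gcd e hrK)).elim
    · exact (hr.not_dvd_one (h.cop_MK.gcd_eq_one ▸ Nat.dvd_gcd e hrK)).elim
    · exact (hd.trans e.dvd).trans (dvd_mul_left K 2)
    · exact hd.trans e.dvd
  obtain ⟨j, hj⟩ := hd2
  have hb := h.big x hx hp
  have hK := h.K_ge
  rcases (by
    have : j < 3 := by
      by_contra hlt; push Not at hlt
      have := Nat.mul_le_mul hb hlt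
      omega
    omega : j = 0 ∨ j = 1 ∨ j = 2) with rfl | rfl | rfl
  · omega
  · right; omega
  · left; omega

theorem qM_mod : ∃ j : ℕ, q * M = j * K + 1 := by
  have hK := h.hK
  have hK4 := h.K_ge
  rcases h.side with h' | h'
  · obtain ⟨k, rfl⟩ : ∃ k, M = k + 1 := ⟨M - 1, by omega⟩
    obtain rfl : K = k := by omega
    obtain rfl : q = 2 * K + 1 := by omega
    exact ⟨2 * K + 3, by ring⟩
  · obtain rfl : K = M + 1 := by omega
    obtain ⟨k, rfl⟩ : ∃ k, M = k + 1 := ⟨M - 1, by omega⟩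
    obtain rfl : q = 2 * k + 3 := by omega
    exact ⟨2 * k + 1, by ring⟩

/-- Consequences of the count. -/
theorem tight {i K' : ℕ} (hK : K = 2 ^ i * K') (hodd : Odd K') (hK1 : 1 < K') :
    (∀ y : H, y ≠ 1 → y ^ K' = 1 →
      Nat.card (centralizer ({y} : Set H)) = K ∧
      Nat.card {u : H // u * y = y * u ∧ u ^ (2 * 2 ^ i) = 1} = 2 ^ i) ∧
    Nat.card {x : H // x ^ K' = 1 ∧ x ≠ 1} = q * M * (K' - 1) ∧
    Nat.card {x : H // x ^ (2 * 2 ^ i) = 1 ∧ x ≠ 1} = q * M * (2 ^ i - 1) := by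
  classical
  haveI := Fintype.ofFinite H
  set E := 2 * 2 ^ i with hE
  set A := 2 ^ i with hA
  have hA0 : 0 < A := Nat.pos_of_ne_zero (pow_ne_zero _ two_ne_zero)
  have hEK : E * K' = 2 * K := by rw [hK, hE, mul_assoc]
  have hco : Nat.Coprime E K' := by
    rw [hE, hA, ← pow_succ']
    exact Nat.Coprime.pow_left _ (Nat.coprime_two_left.2 hodd)
  have hK'2 : K' ∣ 2 * K := Dvd.intro_left E hEK
  have hE2 : E ∣ 2 * K := Dvd.intro K' hEK
  set O : Finset H := Finset.univ.filter fun x => x ^ K' = 1 ∧ x ≠ 1 with hO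
  set T : Finset H := Finset.univ.filter fun x => x ^ E = 1 ∧ x ≠ 1 with hT
  set Γ : Finset H := Finset.univ.filter fun x => x ^ (2 * K) = 1 ∧ x ≠ 1 with hΓ
  set fib : H → Finset H := fun y => Finset.univ.filter fun u => u * y = y * u ∧ u ^ E = 1 with hfib
  have conv : ∀ {P : H → Prop} [DecidablePred P],
      Nat.card {x : H // P x} = (Finset.univ.filter P).card := by
    intro P _; rw [Nat.card_eq_fintype_card, Fintype.card_subtype]
  have hpow : ∀ {x : H} {m : ℕ}, m ∣ 2 * K → x ^ m = 1 → x ^ (2 * K) = 1 := by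
    rintro x m ⟨c, hc⟩ hx; rw [hc, pow_mul, hx, one_pow]
  have hcent : ∀ {x : H}, x ≠ 1 → ∀ {m : ℕ}, m ∣ 2 * K → x ^ m = 1 →
      Nat.card (centralizer ({x} : Set H)) = K ∨ Nat.card (centralizer ({x} : Set H)) = 2 * K :=
    fun hx _ hm hxm => h.cent_cases hx (hpow hm hxm)
  have hinv : ∀ (m : ℕ) (g x : H), x ^ m = 1 ∧ x ≠ 1 → (g * x * g⁻¹) ^ m = 1 ∧ g * x * g⁻¹ ≠ 1 :=
    fun m g x hx => ⟨by rw [conj_pow, hx.1, mul_one, mul_inv_cancel],
      fun e => hx.2 (conj_eq_one_iff.1 e)⟩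
  obtain ⟨U, hU⟩ := h.dvd_invariant (fun x => x ^ K' = 1 ∧ x ≠ 1) (hinv K')
    (fun x hx => hcent hx.2 hK'2 hx.1)
  obtain ⟨V, hV⟩ := h.dvd_invariant (fun x => x ^ E = 1 ∧ x ≠ 1) (hinv E)
    (fun x hx => hcent hx.2 hE2 hx.1)
  replace hU : O.card = q * M * U := by rw [hO, ← conv]; exact hU
  replace hV : T.card = q * M * V := by rw [hT, ← conv]; exact hV
  have addone : ∀ m : ℕ, (Finset.univ.filter fun x : H => x ^ m = 1).card =
      (Finset.univ.filter fun x : H => x ^ m = 1 ∧ x ≠ 1).card + 1 := fun m => by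
    have e : (Finset.univ.filter fun x : H => x ^ m = 1 ∧ x ≠ 1) =
        (Finset.univ.filter fun x : H => x ^ m = 1).erase 1 := by
      ext x; simp [and_comm]
    rw [e, Finset.card_erase_add_one (by simp)]
  obtain ⟨j, hj⟩ := h.qM_mod
  have lower : ∀ {B : ℕ}, B ∣ K → 0 < B → ∀ {W : ℕ}, B ∣ q * M * W + 1 → B - 1 ≤ W := by
    intro B hB hB0 W hW
    rw [hj, show (j * K + 1) * W + 1 = j * K * W + (W + 1) by ring,
      Nat.dvd_add_right ((hB.mul_left j).mul_right W)] at hW
    have := Nat.le_of_dvd (by omega) hW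
    omega
  have hUge : K' - 1 ≤ U := by
    refine lower ⟨A, by rw [hK]; ring⟩ (by omega) ?_
    rw [← hU, hO, ← addone, ← conv]
    exact FrobeniusCount.dvd_card_pow_eq_one (hK'2.trans (h.card ▸ ⟨q * M, by ring⟩))
  have hVge : A - 1 ≤ V := by
    refine lower ⟨K', hK⟩ hA0 ?_
    rw [← hV, hT, ← addone, ← conv]
    exact (dvd_mul_left A 2).trans
      (FrobeniusCount.dvd_card_pow_eq_one (hE2.trans (h.card ▸ ⟨q * M, by ring⟩)))
  -- the fibres
  have hfibcard : ∀ y ∈ O, A ∣ (fib y).card ∧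
      (Nat.card (centralizer ({y} : Set H)) = 2 * K → E ∣ (fib y).card) ∧ 0 < (fib y).card := by
    intro y hy
    simp only [hO, Finset.mem_filter, Finset.mem_univ, true_and] at hy
    have e : Nat.card {u : centralizer ({y} : Set H) // u ^ E = 1} = (fib y).card := by
      rw [← conv]
      refine Nat.card_congr
        { toFun := fun u => ⟨(u.1 : H), mem_centralizer_singleton_iff.1 u.1.2,
            congrArg Subtype.val u.2⟩
          invFun := fun u => ⟨⟨u.1, mem_centralizer_singleton_iff.2 u.2.1⟩, Subtype.ext u.2.2⟩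
          left_inv := fun u => rfl
          right_inv := fun u => rfl }
    have hg := FrobeniusCount.gcd_dvd_card_pow_eq_one (G := centralizer ({y} : Set H)) E
    rw [e] at hg
    refine ⟨(Nat.dvd_gcd (dvd_mul_left A 2) ?_).trans hg, fun e2 => ?_,
      Finset.card_pos.2 ⟨1, by simp [hfib]⟩⟩
    · rcases hcent hy.2 hK'2 hy.1 with e' | e' <;> rw [e', hK]
      exacts [dvd_mul_right _ _, dvd_mul_of_dvd_right (dvd_mul_right _ _) 2]
    · rw [e2] at hg
      exact (Nat.dvd_gcd dvd_rfl hE2).trans hg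
  -- injection
  obtain ⟨m, hm⟩ := Nat.exists_mul_mod_eq_one_of_coprime hco hK1
  have hroot : ∀ y : H, y ^ K' = 1 → (y ^ E) ^ m = y := fun y hy => by
    rw [← pow_mul, ← Nat.mod_add_div (E * m) K', hm.2, pow_add, pow_one, pow_mul, hy, one_pow,
      mul_one]
  set S := O.sigma fib with hS
  have hinj : Set.InjOn (fun u : (_ : H) × H => u.1 * u.2) (S : Set ((_ : H) × H)) := by
    rintro ⟨y, u⟩ hu ⟨y', u'⟩ hu' e
    simp only [hS, Finset.coe_sigma, Set.mem_sigma_iff, hO, hfib, Finset.coe_filter,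
      Finset.mem_univ, true_and, Set.mem_setOf_eq] at hu hu'
    have e : y * u = y' * u' := e
    have hyy : y = y' := by
      rw [← hroot y hu.1.1, ← hroot y' hu'.1.1]
      congr 1
      have := congrArg (· ^ E) e
      simpa [(show Commute y u from hu.2.1.symm).mul_pow,
        (show Commute y' u' from hu'.2.1.symm).mul_pow, hu.2.2, hu'.2.2] using this
    subst hyy
    rw [mul_left_cancel e]
  have hsub : T ∪ S.image (fun u => u.1 * u.2) ⊆ Γ := by
    intro x hx
    simp only [Finset.mem_union, hT, Finset.mem_filter, Finset.mem_univ, true_and, Finset.mem_image,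
      hS, Finset.mem_sigma, hO, hfib] at hx
    simp only [hΓ, Finset.mem_filter, Finset.mem_univ, true_and]
    rcases hx with ⟨h1, h2⟩ | ⟨⟨y, u⟩, ⟨⟨hy1, hy2⟩, hu1, hu2⟩, rfl⟩
    · exact ⟨hpow hE2 h1, h2⟩
    · have hc : Commute y u := hu1.symm
      refine ⟨by rw [hc.mul_pow, hpow hK'2 hy1, hpow hE2 hu2, one_mul], fun e => hy2 ?_⟩
      have := congrArg (· ^ E) e
      simp [hc.mul_pow, hu2] at this
      rw [← hroot y hy1, this, one_pow]
  have hdisj : Disjoint T (S.image fun u => u.1 * u.2) := by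
    rw [Finset.disjoint_left]
    intro x hx hx'
    simp only [hT, Finset.mem_filter, Finset.mem_univ, true_and] at hx
    simp only [Finset.mem_image, hS, Finset.mem_sigma, hO, hfib, Finset.mem_filter, Finset.mem_univ,
      true_and] at hx'
    obtain ⟨⟨y, u⟩, ⟨⟨hy1, hy2⟩, hu1, hu2⟩, rfl⟩ := hx'
    refine hy2 ?_
    have hc : Commute y u := hu1.symm
    have := hx.1
    rw [hc.mul_pow, hu2, mul_one] at this
    rw [← hroot y hy1, this, one_pow]
  have hΓc : Γ.card = q * M * (K - 1) := by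
    have := h.count_K
    rw [conv, addone, ← hΓ] at this
    omega
  have hle := Finset.card_le_card hsub
  rw [Finset.card_union_of_disjoint hdisj, Finset.card_image_of_injOn hinj, hS, Finset.card_sigma,
    hV, hΓc] at hle
  have hsum : ∀ y ∈ O, A ≤ (fib y).card := fun y hy =>
    Nat.le_of_dvd (hfibcard y hy).2.2 (hfibcard y hy).1
  have hsum' := Finset.sum_le_sum hsum
  rw [Finset.sum_const, smul_eq_mul, hU] at hsum'
  have hQ : 0 < q * M := Nat.mul_pos (by have := h.seven; omega) (by have := h.M_ge; omega)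
  have hKexp : K - 1 = (A - 1) + (K' - 1) * A := by
    obtain ⟨k, rfl⟩ : ∃ k, K' = k + 1 := ⟨K' - 1, by omega⟩
    obtain ⟨a, ha⟩ : ∃ a, A = a + 1 := ⟨A - 1, by omega⟩
    rw [hK, ha, Nat.add_sub_cancel, Nat.add_sub_cancel,
      show (a + 1) * (k + 1) = a + k * (a + 1) + 1 by ring, Nat.add_sub_cancel]
  rw [hKexp] at hle
  have h1 : q * M * (A - 1) ≤ q * M * V := Nat.mul_le_mul_left _ hVge
  have h2 : q * M * (K' - 1) * A ≤ q * M * U * A := Nat.mul_le_mul_right _ (Nat.mul_le_mul_left _ hUge)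
  have h3 : q * M * (A - 1 + (K' - 1) * A) = q * M * (A - 1) + q * M * (K' - 1) * A := by ring
  have heq : ∀ y ∈ O, (fib y).card = A := by
    intro y hy
    have := (Finset.sum_eq_sum_iff_of_le hsum).1
      (by rw [Finset.sum_const, smul_eq_mul, hU]; omega) y hy
    exact this.symm
  refine ⟨fun y hy1 hy => ?_, ?_, ?_⟩
  · have hyO : y ∈ O := by simp [hO, hy, hy1]
    refine ⟨(hcent hy1 hK'2 hy).resolve_right fun e => ?_, ?_⟩
    · have := (hfibcard y hyO).2.1 e
      rw [heq y hyO] at this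
      have := Nat.le_of_dvd hA0 this
      omega
    · rw [conv]; exact heq y hyO
  · rw [conv, ← hO, hU]
    have : q * M * U * A = q * M * (K' - 1) * A := by omega
    exact Nat.eq_of_mul_eq_mul_right hA0 this
  · rw [conv, ← hT, hV]; omega

/-- The Brauer-Suzuki-Wall configuration. -/
theorem bsw_hyp {i K' : ℕ} (hK : K = 2 ^ i * K') (hodd : Odd K') (hK1 : 1 < K') :
    ∃ (t s : H) (X : Subgroup H), BSWAbstract.Hyp t s X := by
  classical
  haveI := Fintype.ofFinite H
  haveI : Fact (Nat.Prime 2) := ⟨Nat.prime_two⟩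
  obtain ⟨hfib, hOc, hTc⟩ := h.tight hK hodd hK1
  have hK4 := h.K_ge
  have hi0 : 0 < i := Nat.pos_of_ne_zero fun e => by
    have := h.K_even; obtain ⟨j, hj⟩ := hodd
    rw [e, pow_zero, one_mul] at hK
    omega
  have hA2 : 2 ≤ 2 ^ i := Nat.le_self_pow hi0.ne' 2
  set E := 2 * 2 ^ i with hE
  have hEK : E * K' = 2 * K := by rw [hK, hE, mul_assoc]
  have hcoE : Nat.Coprime E K' := by
    rw [hE, ← pow_succ']; exact Nat.Coprime.pow_left _ (Nat.coprime_two_left.2 hodd)
  have hEd : E = 2 ^ (i + 1) := by rw [hE, pow_succ']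
  -- centralizers of odd prime power elements are commutative
  have hcomm : ∀ {r : ℕ} {y : H}, r.Prime → orderOf y = r → r ∣ K' →
      Nat.card (centralizer ({y} : Set H)) = K ∧
      ∀ a ∈ centralizer ({y} : Set H), ∀ b ∈ centralizer ({y} : Set H), a * b = b * a := by
    intro r y hr hyo hrK
    have hy1 : y ≠ 1 := ne_one_of_order hr hyo
    have hyK : y ^ K' = 1 := orderOf_dvd_iff_pow_eq_one.1 (hyo ▸ hrK)
    obtain ⟨hc, hf⟩ := hfib y hy1 hyK
    refine ⟨hc, ?_⟩
    have hr2 : r ≠ 2 := by rintro rfl; exact hodd.not_two_dvd_nat hrK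
    set X := centralizer ({y} : Set H) with hX
    have two_central : ∀ u ∈ X, u ^ E = 1 → X ≤ centralizer ({u} : Set H) := fun u hu huE =>
      h.rigid r 2 y u hr Nat.prime_two hr2 (pp_self hyo)
        ⟨i + 1, hEd ▸ orderOf_dvd_of_pow_eq_one huE⟩ hy1
        (show Commute y u from (mem_centralizer_singleton_iff.1 hu).symm)
        (Or.inr ⟨hr2, hrK.trans (hK ▸ dvd_mul_left K' (2 ^ i)), hc⟩)
    obtain ⟨⟨u, huX⟩, huo⟩ := exists_prime_orderOf_dvd_card' (G := X) 2 (hc ▸ h.K_even)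
    rw [← Subgroup.orderOf_coe] at huo
    change orderOf u = 2 at huo
    have huE : u ^ E = 1 := orderOf_dvd_iff_pow_eq_one.1 (huo ▸ dvd_mul_right 2 _)
    have hu1 : u ≠ 1 := ne_one_of_order Nat.prime_two huo
    have hXu := two_central u huX huE
    have hcentral : X ≤ centralizer (X : Set H) := by
      refine TwoClassSizes.le_of_primePow_mem fun a ha s hs hap => ?_
      rw [mem_centralizer_iff]
      intro b hb
      rcases eq_or_ne a 1 with rfl | ha1
      · simp
      have haK : orderOf a ∣ 2 ^ i * K' := hK ▸ hc ▸ orderOf_dvd_natCard X ha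
      obtain ⟨k, hk⟩ := hap
      by_cases hs2 : s = 2
      · subst hs2
        have hd : orderOf a ∣ 2 ^ i := Nat.Coprime.dvd_of_dvd_mul_right
          ((Nat.Coprime.pow_left k (Nat.coprime_two_left.2 hodd)).coprime_dvd_left hk) haK
        exact mem_centralizer_singleton_iff.1 (two_central a ha
          (orderOf_dvd_iff_pow_eq_one.1 (hd.trans (dvd_mul_left _ 2))) hb)
      have hd : orderOf a ∣ K' := Nat.Coprime.dvd_of_dvd_mul_left
        ((Nat.Coprime.pow k i ((Nat.coprime_primes hs Nat.prime_two).2 hs2)).coprime_dvd_left hk) haK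
      obtain ⟨hca, hfa⟩ := hfib a ha1 (orderOf_dvd_iff_pow_eq_one.1 hd)
      set Y := centralizer ({a} : Set H) with hY
      have hsub : ∀ v : H, v ∈ X ∧ v ^ E = 1 → v ∈ Y ∧ v ^ E = 1 := fun v hv =>
        ⟨mem_centralizer_singleton_iff.2 (mem_centralizer_singleton_iff.1 (two_central v hv.1 hv.2 ha)).symm,
          hv.2⟩
      have hsame : ∀ v : H, v ∈ Y → v ^ E = 1 → v ∈ X := by
        intro v hv hvE
        have hinj : Function.Injective (fun w : {w : H // w * y = y * w ∧ w ^ E = 1} =>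
            (⟨w.1, mem_centralizer_singleton_iff.1
              (hsub w.1 ⟨mem_centralizer_singleton_iff.2 w.2.1, w.2.2⟩).1, w.2.2⟩ :
              {w : H // w * a = a * w ∧ w ^ E = 1})) :=
          fun w w' e => Subtype.ext (by simpa using e)
        obtain ⟨⟨w, hw⟩, e⟩ := (hinj.bijective_of_nat_card_le (by rw [hf, hfa])).2
          ⟨v, mem_centralizer_singleton_iff.1 hv, hvE⟩
        have e : w = v := by simpa using e
        rw [← e]; exact mem_centralizer_singleton_iff.2 hw.1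
      have huY : u ∈ Y := (hsub u ⟨huX, huE⟩).1
      have hYu : Y ≤ centralizer ({u} : Set H) := by
        have hs' : ∃ k, orderOf a ∣ s ^ k := ⟨k, hk⟩
        exact h.rigid s 2 a u hs Nat.prime_two hs2 hs'
          ⟨i + 1, hEd ▸ orderOf_dvd_of_pow_eq_one huE⟩ ha1
          (show Commute a u from (mem_centralizer_singleton_iff.1 huY).symm)
          (Or.inr ⟨hs2, by
            obtain ⟨l, -, hl⟩ := (Nat.dvd_prime_pow hs).1 hk
            have hl0 : l ≠ 0 := fun e => ha1 (orderOf_eq_one_iff.1 (by rw [hl, e, pow_zero]))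
            exact ((hl ▸ dvd_pow_self s hl0 : s ∣ orderOf a).trans hd).trans
              (hK ▸ dvd_mul_left K' (2 ^ i)), hca⟩)
      have hrel : X.relIndex (centralizer ({u} : Set H)) ≤ 2 := by
        have e := card_mul_index (X.subgroupOf (centralizer ({u} : Set H)))
        rw [Nat.card_congr (subgroupOfEquivOfLe hXu).toEquiv, hc] at e
        change K * X.relIndex _ = _ at e
        refine Nat.le_of_mul_le_mul_left ?_ (show 0 < K by omega)
        rcases h.cent_cases hu1 (orderOf_dvd_iff_pow_eq_one.1 (huo ▸ dvd_mul_right 2 K)) with e' | e' <;>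
          rw [e'] at e <;> omega
      have hYX : Y ≤ X := by
        refine TwoClassSizes.le_of_primePow_mem fun w hw t ht htw => ?_
        obtain ⟨l, hl⟩ := htw
        have hwK : orderOf w ∣ 2 ^ i * K' := hK ▸ hca ▸ orderOf_dvd_natCard Y hw
        by_cases ht2 : t = 2
        · subst ht2
          exact hsame w hw (orderOf_dvd_iff_pow_eq_one.1 ((Nat.Coprime.dvd_of_dvd_mul_right
            ((Nat.Coprime.pow_left l (Nat.coprime_two_left.2 hodd)).coprime_dvd_left hl) hwK).trans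
            (dvd_mul_left _ 2)))
        · exact mem_of_odd_order hXu hrel (hYu hw)
            (orderOf_dvd_iff_pow_eq_one.1 (Nat.Coprime.dvd_of_dvd_mul_left
              ((Nat.Coprime.pow l i ((Nat.coprime_primes ht Nat.prime_two).2 ht2)).coprime_dvd_left hl)
              hwK)) hodd
      have hb' : b ∈ Y := by
        rw [eq_of_le_of_card_ge hYX (by rw [hc, hca])]; exact hb
      exact mem_centralizer_singleton_iff.1 hb'
    exact fun a ha b hb => (mem_centralizer_iff.1 (hcentral hb) a ha)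
  -- the subgroup
  obtain ⟨r, hr, hrK⟩ := Nat.exists_prime_and_dvd (show K' ≠ 1 by omega)
  haveI := Fact.mk hr
  have hKn : 2 * K ∣ Nat.card H := h.card ▸ ⟨q * M, by ring⟩
  obtain ⟨y₀, hy₀⟩ := exists_prime_orderOf_dvd_card' (G := H) r
    ((hrK.trans (Dvd.intro_left E hEK)).trans hKn)
  obtain ⟨hXc, hXab⟩ := hcomm hr hy₀ hrK
  set X := centralizer ({y₀} : Set H) with hXdef
  -- conjugates are TI
  have hconjcomm : ∀ g : H, ∀ a ∈ X.map (MulAut.conj g).toMonoidHom,
      ∀ b ∈ X.map (MulAut.conj g).toMonoidHom, a * b = b * a := by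
    rintro g _ ⟨a, ha, rfl⟩ _ ⟨b, hb, rfl⟩
    rw [← map_mul, ← map_mul, hXab a ha b hb]
  have hTI : ∀ {Y Z : Subgroup H}, Nat.card Y = K → Nat.card Z = K →
      (∀ a ∈ Y, ∀ b ∈ Y, a * b = b * a) → (∀ a ∈ Z, ∀ b ∈ Z, a * b = b * a) →
      (∃ w ∈ Y, orderOf w = r) → ∀ e : H, e ∈ Y → e ∈ Z → e ≠ 1 → Y = Z := by
    intro Y Z hY hZ hYa hZa ⟨w, hw, hwo⟩ e heY heZ he1
    have hYe : Y ≤ centralizer ({e} : Set H) := fun v hv =>
      mem_centralizer_singleton_iff.2 (hYa v hv e heY)
    have hZe : Z ≤ centralizer ({e} : Set H) := fun v hv =>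
      mem_centralizer_singleton_iff.2 (hZa v hv e heZ)
    have hrel : Z.relIndex (centralizer ({e} : Set H)) ≤ 2 := by
      have e' := card_mul_index (Z.subgroupOf (centralizer ({e} : Set H)))
      rw [Nat.card_congr (subgroupOfEquivOfLe hZe).toEquiv, hZ] at e'
      change K * Z.relIndex _ = _ at e'
      refine Nat.le_of_mul_le_mul_left ?_ (show 0 < K by omega)
      have h1 : e ^ (2 * K) = 1 := by
        rw [mul_comm, pow_mul, ← hY, pow_card_of_mem heY, one_pow]
      rcases h.cent_cases he1 h1 with h2 | h2 <;> rw [h2] at e' <;> omega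
    have hwK : w ^ K' = 1 := orderOf_dvd_iff_pow_eq_one.1 (hwo ▸ hrK)
    have hwZ : w ∈ Z := mem_of_odd_order hZe hrel (hYe hw) hwK hodd
    obtain ⟨hwc, -⟩ := hcomm hr hwo hrK
    have e1 : Y = centralizer ({w} : Set H) := eq_of_le_of_card_ge
      (fun v hv => mem_centralizer_singleton_iff.2 (hYa v hv w hw)) (by rw [hwc, hY])
    have e2 : Z = centralizer ({w} : Set H) := eq_of_le_of_card_ge
      (fun v hv => mem_centralizer_singleton_iff.2 (hZa v hv w hwZ)) (by rw [hwc, hZ])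
    rw [e1, e2]
  have hmapc : ∀ g : H, Nat.card (X.map (MulAut.conj g).toMonoidHom) = K := fun g => by
    rw [card_map_of_injective (MulAut.conj g).injective, hXc]
  have hy₀X : y₀ ∈ X := mem_centralizer_singleton_iff.2 rfl
  have hmapw : ∀ g : H, ∃ w ∈ X.map (MulAut.conj g).toMonoidHom, orderOf w = r := fun g =>
    ⟨g * y₀ * g⁻¹, ⟨y₀, hy₀X, rfl⟩,
      by rw [← MulAut.conj_apply, MulEquiv.orderOf_eq, hy₀]⟩
  have hXN : ∀ {g d : H}, d ∈ X → d ≠ 1 → g * d * g⁻¹ ∈ X → g ∈ normalizer (X : Set H) :=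
    fun {g d} hd hd1 hgd => mem_normalizer_of_map
      (hTI (hmapc g) hXc (hconjcomm g) hXab (hmapw g) _ ⟨d, hd, rfl⟩ hgd
        (fun e => hd1 (conj_eq_one_iff.1 e)))
  set N := normalizer (X : Set H) with hN
  -- the map from cosets
  have hinjmap : ∀ (m : ℕ), Function.Injective
      (fun u : (H ⧸ N) × {d : H // d ∈ X ∧ d ^ m = 1 ∧ d ≠ 1} =>
        (⟨u.1.out * u.2.1 * u.1.out⁻¹, by rw [conj_pow, u.2.2.2.1, mul_one, mul_inv_cancel],
          fun e => u.2.2.2.2 (conj_eq_one_iff.1 e)⟩ : {x : H // x ^ m = 1 ∧ x ≠ 1})) := by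
    rintro m ⟨a, d, hd, hdm, hd1⟩ ⟨b, d', hd', hdm', hd1'⟩ e
    have e : a.out * d * a.out⁻¹ = b.out * d' * b.out⁻¹ := congrArg Subtype.val e
    have e' : (b.out⁻¹ * a.out) * d * (b.out⁻¹ * a.out)⁻¹ = d' := by
      calc _ = b.out⁻¹ * (a.out * d * a.out⁻¹) * b.out := by group
        _ = d' := by rw [e]; group
    have hm' := hXN hd hd1 (e'.symm ▸ hd')
    obtain rfl : a = b := by
      rw [← QuotientGroup.out_eq' a, ← QuotientGroup.out_eq' b, eq_comm, QuotientGroup.eq]
      exact hm'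
    simpa using e
  have hsurjO : Function.Surjective
      (fun u : (H ⧸ N) × {d : H // d ∈ X ∧ d ^ K' = 1 ∧ d ≠ 1} =>
        (⟨u.1.out * u.2.1 * u.1.out⁻¹, by rw [conj_pow, u.2.2.2.1, mul_one, mul_inv_cancel],
          fun e => u.2.2.2.2 (conj_eq_one_iff.1 e)⟩ : {x : H // x ^ K' = 1 ∧ x ≠ 1})) := by
    rintro ⟨x, hxK, hx1⟩
    obtain ⟨t, ht, htx⟩ := Nat.exists_prime_and_dvd (mt orderOf_eq_one_iff.1 hx1)
    obtain ⟨y, hy, hyo⟩ := exists_prime_pow_elem ht htx
    obtain ⟨hYc, hYab⟩ := hcomm ht hyo (htx.trans (orderOf_dvd_of_pow_eq_one hxK))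
    set Y := centralizer ({y} : Set H)
    have hxY : x ∈ Y := cent_le_zpow hy (mem_centralizer_singleton_iff.2 rfl)
    obtain ⟨⟨w, hwY⟩, hwo⟩ := exists_prime_orderOf_dvd_card' (G := Y) r
      (hYc ▸ hrK.trans (hK ▸ dvd_mul_left K' _))
    rw [← Subgroup.orderOf_coe] at hwo
    change orderOf w = r at hwo
    -- Sylow subgroups of the two centralizers are conjugate
    obtain ⟨R⟩ : Nonempty (Sylow r X) := inferInstance
    obtain ⟨R'⟩ : Nonempty (Sylow r Y) := inferInstance
    have hidx : ∀ {Z : Subgroup H}, Nat.card Z = K → ∀ R : Sylow r Z,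
        ¬ r ∣ ((R : Subgroup Z).map Z.subtype).index := by
      intro Z hZ R hd
      rw [index_map_subtype] at hd
      refine (hr.dvd_mul.1 hd).elim R.not_dvd_index fun hd' => ?_
      have e1 := Z.card_mul_index
      rw [hZ, h.card] at e1
      have e2 : Z.index = 2 * (q * M) := Nat.eq_of_mul_eq_mul_left (show 0 < K by omega)
        (e1.trans (by ring))
      rw [e2] at hd'
      have hr2 : r ≠ 2 := by rintro rfl; exact hodd.not_two_dvd_nat hrK
      have hd'' := (hr.dvd_mul.1 hd').resolve_left fun e =>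
        hr2 ((Nat.prime_dvd_prime_iff_eq hr Nat.prime_two).1 e)
      exact hr.not_dvd_one (((h.cop_qK.symm.mul_right h.cop_MK.symm).coprime_dvd_left
        (hrK.trans (Dvd.intro_left E hEK))).gcd_eq_one ▸ Nat.dvd_gcd dvd_rfl hd'')
    obtain ⟨g, hg⟩ := MulAction.exists_smul_eq H ((R.2.map _).toSylow (hidx hXc R))
      ((R'.2.map _).toSylow (hidx hYc R'))
    have hRne : (R : Subgroup X) ≠ ⊥ :=
      R.ne_bot_of_dvd_card (hXc ▸ hrK.trans (hK ▸ dvd_mul_left K' _))
    obtain ⟨⟨v, hvX⟩, hvR, hv1⟩ := ((R : Subgroup X).bot_or_exists_ne_one).resolve_left hRne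
    have hgv : g * v * g⁻¹ ∈ Y := by
      have hm : g * v * g⁻¹ ∈ ((g • (R.2.map _).toSylow (hidx hXc R) : Sylow r H) : Subgroup H) :=
        ⟨v, ⟨⟨v, hvX⟩, hvR, rfl⟩, rfl⟩
      rw [hg] at hm
      obtain ⟨z, -, hz⟩ := hm
      rw [← hz]; exact z.2
    have heq := hTI (hmapc g) hYc (hconjcomm g) hYab (hmapw g) _ ⟨v, hvX, rfl⟩ hgv
      (fun e => hv1 (Subtype.ext (conj_eq_one_iff.1 e)))
    obtain ⟨d, hd, hdx⟩ : x ∈ X.map (MulAut.conj g).toMonoidHom := heq ▸ hxY
    change g * d * g⁻¹ = x at hdx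
    have hm : ((g : H ⧸ N).out)⁻¹ * g ∈ N := QuotientGroup.eq.1 (QuotientGroup.out_eq' _)
    refine ⟨((g : H ⧸ N), ⟨((g : H ⧸ N).out)⁻¹ * x * (g : H ⧸ N).out, ?_, ?_, fun e => hx1 ?_⟩), ?_⟩
    · rw [← hdx]
      have := (mem_normalizer_iff.1 hm d).1 hd
      simpa [mul_assoc] using this
    · have : (((g : H ⧸ N).out)⁻¹ * x * ((g : H ⧸ N).out)⁻¹⁻¹) ^ K' = 1 := by
        rw [conj_pow, hxK, mul_one, mul_inv_cancel]
      simpa using this
    · rwa [← conj_eq_one_iff (a := ((g : H ⧸ N).out)⁻¹), inv_inv]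
    · exact Subtype.ext (show (g : H ⧸ N).out * (((g : H ⧸ N).out)⁻¹ * x * (g : H ⧸ N).out) *
        ((g : H ⧸ N).out)⁻¹ = x by group)
  obtain ⟨-, hfib0⟩ := hfib y₀ (ne_one_of_order hr hy₀) (orderOf_dvd_iff_pow_eq_one.1 (hy₀ ▸ hrK))
  let F : Subgroup H :=
    { carrier := {u | u ∈ X ∧ u ^ E = 1}
      mul_mem' := fun {a b} ha hb => ⟨mul_mem ha.1 hb.1, by
        rw [(show Commute a b from hXab a ha.1 b hb.1).mul_pow, ha.2, hb.2, one_mul]⟩
      one_mem' := ⟨one_mem X, one_pow _⟩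
      inv_mem' := fun {a} ha => ⟨inv_mem ha.1, by rw [inv_pow, ha.2, inv_one]⟩ }
  have hFc : Nat.card F = 2 ^ i := by
    rw [← hfib0]
    exact Nat.card_congr
      { toFun := fun u => ⟨u.1, mem_centralizer_singleton_iff.1 u.2.1, u.2.2⟩
        invFun := fun u => ⟨u.1, mem_centralizer_singleton_iff.2 u.2.1, u.2.2⟩
        left_inv := fun u => rfl
        right_inv := fun u => rfl }
  let W : Subgroup H :=
    { carrier := {u | u ∈ X ∧ u ^ K' = 1}
      mul_mem' := fun {a b} ha hb => ⟨mul_mem ha.1 hb.1, by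
        rw [(show Commute a b from hXab a ha.1 b hb.1).mul_pow, ha.2, hb.2, one_mul]⟩
      one_mem' := ⟨one_mem X, one_pow _⟩
      inv_mem' := fun {a} ha => ⟨inv_mem ha.1, by rw [inv_pow, ha.2, inv_one]⟩ }
  have hWc : Nat.card W = K' := by
    refine le_antisymm ?_ ?_
    · have hinj : Function.Injective (fun u : W × F => (⟨(u.1 : H) * u.2, mul_mem u.1.2.1 u.2.2.1⟩ : X)) := by
        rintro ⟨⟨a, ha⟩, ⟨b, hb⟩⟩ ⟨⟨a', ha'⟩, ⟨b', hb'⟩⟩ e
        have e : a * b = a' * b' := congrArg Subtype.val e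
        have h1 : a'⁻¹ * a = b' * b⁻¹ := by
          rw [inv_mul_eq_iff_eq_mul, ← mul_assoc, ← e, mul_inv_cancel_right]
        have hW : a'⁻¹ * a ∈ W := mul_mem (inv_mem ha') ha
        have hF : a'⁻¹ * a ∈ F := h1 ▸ mul_mem hb' (inv_mem hb)
        have h2 : a'⁻¹ * a = 1 := orderOf_eq_one_iff.1 (Nat.dvd_one.1 (hcoE.gcd_eq_one ▸
          Nat.dvd_gcd (orderOf_dvd_of_pow_eq_one hF.2) (orderOf_dvd_of_pow_eq_one hW.2)))
        have h3 : a = a' := (inv_mul_eq_one.1 h2).symm
        subst h3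
        simp [mul_left_cancel e]
      have := Nat.card_le_card_of_injective _ hinj
      rw [Nat.card_prod, hFc, hXc, hK, mul_comm] at this
      exact Nat.le_of_mul_le_mul_left this (by omega)
    · have hd := FrobeniusCount.dvd_card_pow_eq_one (G := X) (n := K') (hXc ▸ hK ▸ dvd_mul_left K' _)
      have e : Nat.card {u : X // u ^ K' = 1} = Nat.card W := Nat.card_congr
        { toFun := fun u => ⟨u.1, u.1.2, congrArg Subtype.val u.2⟩
          invFun := fun u => ⟨⟨u.1, u.2.1⟩, Subtype.ext u.2.2⟩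
          left_inv := fun u => rfl
          right_inv := fun u => rfl }
      rw [e] at hd
      exact Nat.le_of_dvd Nat.card_pos hd
  have hsetW : Nat.card {d : H // d ∈ X ∧ d ^ K' = 1 ∧ d ≠ 1} + 1 = K' := by
    refine Eq.trans (congrArg (· + 1) (Nat.card_congr (Equiv.subtypeEquivRight
      (q := fun d => d ∈ W ∧ d ≠ 1) fun d => (and_assoc).symm))) ((card_ne_one W).trans hWc)
  have hsetF : Nat.card {d : H // d ∈ X ∧ d ^ E = 1 ∧ d ≠ 1} + 1 = 2 ^ i := by
    refine Eq.trans (congrArg (· + 1) (Nat.card_congr (Equiv.subtypeEquivRight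
      (q := fun d => d ∈ F ∧ d ≠ 1) fun d => (and_assoc).symm))) ((card_ne_one F).trans hFc)
  have hNi : N.index = q * M := by
    have := Nat.card_congr (Equiv.ofBijective _ ⟨hinjmap K', hsurjO⟩)
    rw [hOc, Nat.card_prod, ← index_eq_card, show Nat.card {d : H // d ∈ X ∧ d ^ K' = 1 ∧ d ≠ 1}
      = K' - 1 by omega] at this
    exact Nat.eq_of_mul_eq_mul_right (show 0 < K' - 1 by omega) this
  have hNc : Nat.card N = 2 * K := by
    have := N.card_mul_index
    rw [hNi, h.card] at this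
    exact Nat.eq_of_mul_eq_mul_right
      (Nat.mul_pos (show 0 < q by have := h.seven; omega) (show 0 < M by have := h.M_ge; omega))
      (this.trans (by ring))
  have hTall : ∀ x : H, x ^ E = 1 → x ≠ 1 → ∃ g d : H, d ∈ X ∧ d ^ E = 1 ∧ g * d * g⁻¹ = x := by
    intro x hx hx1
    obtain ⟨u, e⟩ := ((hinjmap E).bijective_of_nat_card_le (by
      rw [hTc, Nat.card_prod, ← index_eq_card, hNi,
        show Nat.card {d : H // d ∈ X ∧ d ^ E = 1 ∧ d ≠ 1} = 2 ^ i - 1 by omega])).2 ⟨x, hx, hx1⟩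
    exact ⟨u.1.out, u.2.1, u.2.2.1, u.2.2.2.1, congrArg Subtype.val e⟩
  -- the central involution
  have hFp : IsPGroup 2 F := IsPGroup.of_card hFc
  obtain ⟨S, hS⟩ := hFp.exists_le_sylow
  have hSc : Nat.card (S : Subgroup H) = 2 * 2 ^ i := by
    rw [Sylow.card_eq_multiplicity, ← pow_succ']
    congr 1
    have e : Nat.card H = 2 ^ (i + 1) * (q * M * K') := by rw [h.card, hK]; ring
    have ho : ¬ 2 ∣ q * M * K' := ((h.qodd.mul h.Modd).mul hodd).not_two_dvd_nat
    have hne : q * M * K' ≠ 0 := fun e => ho (e ▸ dvd_zero 2)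
    rw [e, Nat.factorization_mul (pow_ne_zero _ two_ne_zero) hne, Finsupp.add_apply,
      Nat.prime_two.factorization_pow, Finsupp.single_eq_same,
      Nat.factorization_eq_zero_of_not_dvd ho, add_zero]
  have hFS : (F.subgroupOf S).index = 2 := by
    have e := card_mul_index (F.subgroupOf (S : Subgroup H))
    rw [Nat.card_congr (subgroupOfEquivOfLe hS).toEquiv, hFc, hSc] at e
    exact Nat.eq_of_mul_eq_mul_left (show 0 < 2 ^ i by omega) (e.trans (mul_comm 2 _))
  obtain ⟨g, hg⟩ : ∃ g : (S : Subgroup H), g ∉ F.subgroupOf S := by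
    by_contra hcon
    push Not at hcon
    rw [show F.subgroupOf S = ⊤ from eq_top_iff.2 fun x _ => hcon x, index_top] at hFS
    omega
  haveI : (F.subgroupOf S).Normal := normal_of_index_eq_two hFS
  obtain ⟨g, hgS⟩ := g
  have hgF : g ∉ F := hg
  have hgg : g * g ∈ F := mul_self_mem_of_index_two (H := F.subgroupOf S) hFS ⟨g, hgS⟩
  have hgX : g ∉ X := fun hgX => hgF ⟨hgX, by
    have := pow_card_of_mem (X := (S : Subgroup H)) hgS
    rwa [hSc] at this⟩
  have hFnorm : ∀ u ∈ F, g * u * g⁻¹ ∈ F := fun u hu =>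
    (inferInstance : (F.subgroupOf S).Normal).conj_mem ⟨u, hS hu⟩ hu ⟨g, hgS⟩
  obtain ⟨t, htF, ht2, htg⟩ : ∃ t ∈ F, orderOf t = 2 ∧ g * t * g⁻¹ = t := by
    obtain ⟨⟨u, huF⟩, huo⟩ := exists_prime_orderOf_dvd_card' (G := F) 2
      (hFc ▸ dvd_pow_self 2 hi0.ne')
    rw [← Subgroup.orderOf_coe] at huo
    change orderOf u = 2 at huo
    by_cases hu : g * u * g⁻¹ = u
    · exact ⟨u, huF, huo, hu⟩
    set v := g * u * g⁻¹ with hv
    have hvF := hFnorm u huF
    have huu : u * u = 1 := BSWAbstract.sq_eq_one_of_order_two huo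
    have hvv : v * v = 1 := by
      rw [hv]; calc g * u * g⁻¹ * (g * u * g⁻¹) = g * (u * u) * g⁻¹ := by group
        _ = 1 := by rw [huu]; group
    have huv : u * v = v * u := hXab u huF.1 v hvF.1
    refine ⟨u * v, mul_mem huF hvF, BSWAbstract.order_two_of_sq ?_ ?_, ?_⟩
    · calc u * v * (u * v) = u * (v * u) * v := by group
        _ = (u * u) * (v * v) := by rw [← huv]; group
        _ = 1 := by rw [huu, hvv, one_mul]
    · intro e
      have : v = u := by
        calc v = (u * u) * v := by rw [huu, one_mul]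
          _ = u * (u * v) := by group
          _ = u := by rw [e, mul_one]
      exact hu this
    · have hgv : g * v * g⁻¹ = u := by
        rw [hv]
        calc g * (g * u * g⁻¹) * g⁻¹ = (g * g) * u * (g * g)⁻¹ := by group
          _ = u := by rw [hXab _ hgg.1 u huF.1, mul_inv_cancel_right]
      calc g * (u * v) * g⁻¹ = (g * u * g⁻¹) * (g * v * g⁻¹) := by group
        _ = v * u := by rw [← hv, hgv]
        _ = u * v := huv.symm
  have ht1 : t ≠ 1 := ne_one_of_order Nat.prime_two ht2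
  have hCt : centralizer ({t} : Set H) = N := by
    have hle : centralizer ({t} : Set H) ≤ N := fun v hv => hXN htF.1 ht1 (by
      rw [mem_centralizer_singleton_iff.1 hv, mul_inv_cancel_right]; exact htF.1)
    refine eq_of_le_of_card_ge hle ?_
    have hXle : X ≤ centralizer ({t} : Set H) := fun v hv =>
      mem_centralizer_singleton_iff.2 (hXab v hv t htF.1)
    rcases h.cent_cases ht1 (orderOf_dvd_iff_pow_eq_one.1 (ht2 ▸ dvd_mul_right 2 K)) with e | e
    · exfalso
      have := eq_of_le_of_card_ge hXle (by rw [hXc, e])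
      exact hgX (this ▸ mem_centralizer_singleton_iff.2 (mul_inv_eq_iff_eq_mul.1 htg))
    · rw [hNc, e]
  have hXleN : X ≤ N := le_normalizer
  have hidx2 : (X.subgroupOf N).index = 2 := by
    have e := card_mul_index (X.subgroupOf N)
    rw [Nat.card_congr (subgroupOfEquivOfLe hXleN).toEquiv, hXc, hNc] at e
    exact Nat.eq_of_mul_eq_mul_left (show 0 < K by omega) (e.trans (mul_comm 2 K))
  -- the elements outside
  have hout : ∀ v ∈ N, v ∉ X → v * v = 1 ∧ ∀ f ∈ X, f * v = v * f → f = 1 ∨ f = t := by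
    intro v hvN hvX
    have hv2 : v * v ∈ X := mul_self_mem_of_index_two hidx2 ⟨v, hvN⟩
    have hvK : v ^ (2 * K) = 1 := hNc ▸ pow_card_of_mem hvN
    have hvE : v ^ E = 1 := by
      by_contra hne
      have hoX : v ^ E ∈ X := by
        rw [hE, pow_mul, pow_two]; exact pow_mem hv2 _
      have hoK : (v ^ E) ^ K' = 1 := by rw [← pow_mul, hEK, hvK]
      obtain ⟨hoc, -⟩ := hfib _ hne hoK
      have e : X = centralizer ({v ^ E} : Set H) := eq_of_le_of_card_ge
        (fun w hw => mem_centralizer_singleton_iff.2 (hXab w hw _ hoX)) (by rw [hoc, hXc])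
      exact hvX (e ▸ mem_centralizer_singleton_iff.2 (Commute.self_pow v E).eq)
    have hv1 : v ≠ 1 := fun e => hvX (e ▸ one_mem X)
    obtain ⟨a, d, hd, -, hdv⟩ := hTall v hvE hv1
    set X' := X.map (MulAut.conj a).toMonoidHom
    have hvX' : v ∈ X' := ⟨d, hd, hdv⟩
    have hne : X' ≠ X := fun e => hvX (e ▸ hvX')
    have hdisj : ∀ e : H, e ∈ X' → e ∈ X → e = 1 := fun e h1 h2 => by
      by_contra he
      exact hne (hTI (hmapc a) hXc (hconjcomm a) hXab (hmapw a) e h1 h2 he)
    refine ⟨hdisj _ (mul_mem hvX' hvX') hv2, fun f hf hfv => ?_⟩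
    have hN' : ∀ w : H, w * v = v * w → w ∈ normalizer (X' : Set H) := by
      intro w hw
      obtain ⟨o, ho, hoo⟩ := hmapw a
      refine mem_normalizer_of_map ((hTI ?_ (hmapc a) ?_ (hconjcomm a)
        ⟨w * o * w⁻¹, ⟨o, ho, rfl⟩, by rw [← MulAut.conj_apply, MulEquiv.orderOf_eq, hoo]⟩ v
        ⟨v, hvX', by show w * v * w⁻¹ = v; rw [hw, mul_inv_cancel_right]⟩ hvX' hv1))
      · rw [card_map_of_injective (MulAut.conj w).injective, hmapc a]
      · rintro _ ⟨b, hb, rfl⟩ _ ⟨c, hc, rfl⟩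
        rw [← map_mul, ← map_mul, hconjcomm a b hb c hc]
    have hX'2 : (X'.subgroupOf (normalizer (X' : Set H))).index = 2 := by
      have hn : Nat.card (normalizer (X' : Set H)) = 2 * K := by
        rw [show normalizer (X' : Set H) = N.map (MulAut.conj a).toMonoidHom from
          (map_normalizer_eq_of_bijective X (f := (MulAut.conj a).toMonoidHom)
            (MulAut.conj a).bijective).symm, card_map_of_injective (MulAut.conj a).injective, hNc]
      have e := card_mul_index (X'.subgroupOf (normalizer (X' : Set H)))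
      rw [Nat.card_congr (subgroupOfEquivOfLe le_normalizer).toEquiv, hmapc a, hn] at e
      exact Nat.eq_of_mul_eq_mul_left (show 0 < K by omega) (e.trans (mul_comm 2 K))
    rcases eq_or_ne f 1 with hf1 | hf1
    · exact Or.inl hf1
    refine Or.inr ?_
    have htN' := hN' t (mem_centralizer_singleton_iff.1 (hCt ▸ hvN)).symm
    have hfN' := hN' f hfv
    have hprod : f * t ∈ X' :=
      (mul_mem_iff_of_index_two hX'2 (a := ⟨f, hfN'⟩) (b := ⟨t, htN'⟩)).2
        (iff_of_false (fun e => hf1 (hdisj f e hf)) (fun e => ht1 (hdisj t e htF.1)))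
    calc f = f * t * t := by
          rw [mul_assoc, BSWAbstract.sq_eq_one_of_order_two ht2, mul_one]
      _ = t := by rw [hdisj _ hprod (mul_mem hf htF.1), one_mul]
  obtain ⟨s, hsN, hsX⟩ : ∃ s ∈ N, s ∉ X := by
    by_contra hcon
    push Not at hcon
    have := card_le_of_le (show N ≤ X from hcon)
    omega
  have hss : s * s = 1 := (hout s hsN hsX).1
  have hs2 : orderOf s = 2 := BSWAbstract.order_two_of_sq hss fun e => hsX (e ▸ one_mem X)
  have hinv : ∀ x ∈ X, s * x * s⁻¹ = x⁻¹ := by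
    intro x hx
    have hsx : s * x ∉ X := fun e => hsX ((mul_mem_cancel_right hx).1 e)
    have h1 := (hout (s * x) (mul_mem hsN (hXleN hx)) hsx).1
    rw [show s⁻¹ = s from inv_eq_of_mul_eq_one_right hss]
    exact eq_inv_of_mul_eq_one_left (by rw [mul_assoc (s * x)]; exact h1)
  refine ⟨t, s, X, ⟨ht2, hXab, htF.1, hs2, hsX, ?_, ?_, hinv, ?_, ?_⟩⟩
  · rw [hCt]
    have hle : X ⊔ zpowers s ≤ N := sup_le hXleN (zpowers_le.2 hsN)
    refine eq_of_le_of_card_ge hle ?_
    have h1 : X < X ⊔ zpowers s := lt_of_le_of_ne le_sup_left fun e =>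
      hsX (e.symm ▸ le_sup_right (α := Subgroup H) (mem_zpowers s))
    obtain ⟨c, hc⟩ := card_dvd_of_le h1.le
    have hc2 : 2 ≤ c := by
      by_contra hlt
      interval_cases c
      · rw [mul_zero] at hc; exact Nat.card_pos.ne' hc
      · exact h1.ne (eq_of_le_of_card_ge h1.le (le_of_eq (by rw [hc, mul_one])))
    rw [hNc, hc, hXc, mul_comm 2 K]
    exact Nat.mul_le_mul_left K hc2
  · refine le_antisymm (fun f hf => ?_) (zpowers_le.2 ⟨htF.1, ?_⟩)
    · rcases (hout s hsN hsX).2 f hf.1 (mem_centralizer_singleton_iff.1 hf.2) with e | e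
      · rw [e]; exact one_mem _
      · rw [e]; exact mem_zpowers t
    · exact mem_centralizer_singleton_iff.2 (mem_centralizer_singleton_iff.1 (hCt ▸ hsN)).symm
  · intro a ha
    rw [eq_bot_iff]
    rintro e ⟨he, d, hd, hde⟩
    rw [mem_bot]
    by_contra he1
    refine ha (hCt ▸ hXN hd (fun e' => he1 ?_) (show a * d * a⁻¹ ∈ X by
      rw [show a * d * a⁻¹ = e from hde]; exact he))
    rw [← hde, e', map_one]
  · have key : ∀ x : H, orderOf x = 2 → ∃ a : H, a * t * a⁻¹ = x := by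
      intro x hx
      obtain ⟨a, d, hd, -, hdx⟩ := hTall x
        (orderOf_dvd_iff_pow_eq_one.1 (hx ▸ dvd_mul_right 2 _)) (ne_one_of_order Nat.prime_two hx)
      have hdo : orderOf d = 2 := by
        rw [← hx, ← hdx, ← MulAut.conj_apply, MulEquiv.orderOf_eq]
      have hinvd := hinv d hd
      rw [BSWAbstract.inv_eq_self_of_order_two hdo] at hinvd
      rcases (hout s hsN hsX).2 d hd (mul_inv_eq_iff_eq_mul.1 hinvd).symm with e | e
      · exact absurd e (ne_one_of_order Nat.prime_two hdo)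
      · exact ⟨a, e ▸ hdx⟩
    intro x y hx hy
    obtain ⟨a, ha⟩ := key x hx
    obtain ⟨b, hb⟩ := key y hy
    exact (isConj_iff.2 ⟨a, ha⟩).symm.trans (isConj_iff.2 ⟨b, hb⟩)

end OddCtx

end Cfsg.Agent.PSLClassSize
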