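import Cfsg.Agent.PSLClassSize.OddCtx
import Cfsg.Agent.PSLClassSize.Count
import Cfsg.Agent.TwoClassSizes.Main
import Mathlib.Tactic.IntervalCases

/-!
The number of elements of each type.
-/

set_option autoImplicit false
set_option linter.style.haveILetI false

namespace Cfsg.Agent.PSLClassSize

open Subgroup

universe u

variable {H : Type u} [Group H] {q M K : ℕ}

theorem exists_prime_pow_elem [Finite H] {x : H} {r : ℕ} (hr : r.Prime) (hd : r ∣ orderOf x) :
    ∃ y : H, y ∈ zpowers x ∧ orderOf y = r :=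
  ⟨x ^ (orderOf x / r), Subgroup.pow_mem _ (mem_zpowers x) _,
    orderOf_pow_orderOf_div (orderOf_pos x).ne' hd⟩

theorem commute_of_mem_zpowers {x a b : H} (ha : a ∈ zpowers x) (hb : b ∈ zpowers x) :
    Commute a b := by
  obtain ⟨i, rfl⟩ := mem_zpowers_iff.1 ha
  obtain ⟨j, rfl⟩ := mem_zpowers_iff.1 hb
  exact (Commute.refl x).zpow_zpow i j

theorem cent_le_zpow {x a : H} (ha : a ∈ zpowers x) :
    centralizer ({x} : Set H) ≤ centralizer ({a} : Set H) := fun y hy => by
  obtain ⟨i, rfl⟩ := mem_zpowers_iff.1 ha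
  exact mem_centralizer_singleton_iff.2
    ((show Commute y x from mem_centralizer_singleton_iff.1 hy).zpow_right i).eq

theorem pp_self {r : ℕ} {y : H} (h : orderOf y = r) : ∃ k, orderOf y ∣ r ^ k :=
  ⟨1, by rw [pow_one, h]⟩

theorem ne_one_of_order {r : ℕ} (hr : r.Prime) {y : H} (h : orderOf y = r) : y ≠ 1 := fun e => by
  rw [e, orderOf_one] at h; exact hr.ne_one h.symm

namespace OddCtx

variable [Finite H] (h : OddCtx H q M K)
include h

omit [Finite H] in
theorem M_dvd_ne_two {r : ℕ} (hr : r ∣ M) : r ≠ 2 := by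
  rintro rfl; obtain ⟨j, hj⟩ := h.Modd; omega

theorem class_of_dvd {r s : ℕ} (hs : s.Prime) {x y : H} (hy : orderOf y = s) (hxy : Commute x y)
    (hrx : r ∣ orderOf x) :
    (s ∣ q ∧ r ∣ q) ∨ (s ∣ M ∧ r ∣ M) ∨ (s ∣ 2 * K ∧ r ∣ 2 * K) := by
  have hd := hrx.trans (orderOf_dvd_natCard (centralizer ({y} : Set H))
    (mem_centralizer_singleton_iff.2 hxy.eq))
  rcases h.pp s y hs (ne_one_of_order hs hy) (pp_self hy) with ⟨h1, h2⟩ | ⟨h1, h2⟩ | ⟨h1, h2⟩
  · exact Or.inl ⟨h1, h2 ▸ hd⟩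
  · exact Or.inr (Or.inl ⟨h1, h2 ▸ hd⟩)
  · refine Or.inr (Or.inr ⟨h1, ?_⟩)
    rcases h2 with h2 | h2 <;> rw [h2] at hd
    exacts [dvd_mul_of_dvd_right hd 2, hd]

theorem trichotomy (x : H) : x ^ q = 1 ∨ x ^ M = 1 ∨ x ^ (2 * K) = 1 := by
  rcases eq_or_ne (orderOf x) 1 with h1 | h1
  · left; rw [orderOf_eq_one_iff.1 h1, one_pow]
  obtain ⟨s, hs, hsx⟩ := Nat.exists_prime_and_dvd h1
  obtain ⟨y, hy, hyo⟩ := exists_prime_pow_elem hs hsx
  have hco : Commute x y := commute_of_mem_zpowers (mem_zpowers x) hy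
  have hdn : orderOf x ∣ 2 * q * M * K := h.card ▸ orderOf_dvd_natCard x
  have excl : ∀ {A B : ℕ}, Nat.Coprime A B → ∀ {r : ℕ}, r.Prime → r ∣ A → ¬ r ∣ B :=
    fun hAB r hr h1 h2 => hr.not_dvd_one (hAB.gcd_eq_one ▸ Nat.dvd_gcd h1 h2)
  have hcases : ∀ {r : ℕ}, r.Prime → r ∣ orderOf x →
      (s ∣ q → r ∣ q) ∧ (s ∣ M → r ∣ M) ∧ (s ∣ 2 * K → r ∣ 2 * K) := by
    intro r hr hrx
    rcases h.class_of_dvd hs hyo hco hrx with ⟨a, b⟩ | ⟨a, b⟩ | ⟨a, b⟩
    · exact ⟨fun _ => b, fun e => (excl h.cop_qM hs a e).elim, fun e => (excl h.cop_qK hs a e).elim⟩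
    · exact ⟨fun e => (excl h.cop_qM hs e a).elim, fun _ => b, fun e => (excl h.cop_MK hs a e).elim⟩
    · exact ⟨fun e => (excl h.cop_qK hs e a).elim, fun e => (excl h.cop_MK hs e a).elim, fun _ => b⟩
  have cop : ∀ {A B : ℕ}, Nat.Coprime A B → (∀ r : ℕ, r.Prime → r ∣ orderOf x → r ∣ A) →
      Nat.Coprime (orderOf x) B := fun hAB hA =>
    Nat.coprime_of_dvd fun r hr h1 h2 => excl hAB hr (hA r hr h1) h2
  rcases h.class_of_dvd hs hyo hco hsx with ⟨a, -⟩ | ⟨a, -⟩ | ⟨a, -⟩
  · left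
    rw [← orderOf_dvd_iff_pow_eq_one]
    exact (cop (h.cop_qK.mul_right h.cop_qM) fun r hr hrx => (hcases hr hrx).1 a).dvd_of_dvd_mul_right
      (by rw [show q * (2 * K * M) = 2 * q * M * K by ring]; exact hdn)
  · right; left
    rw [← orderOf_dvd_iff_pow_eq_one]
    exact (cop (h.cop_MK.mul_right h.cop_qM.symm) fun r hr hrx => (hcases hr hrx).2.1 a).dvd_of_dvd_mul_right
      (by rw [show M * (2 * K * q) = 2 * q * M * K by ring]; exact hdn)
  · right; right
    rw [← orderOf_dvd_iff_pow_eq_one]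
    exact (cop (h.cop_qK.symm.mul_right h.cop_MK.symm) fun r hr hrx => (hcases hr hrx).2.2 a).dvd_of_dvd_mul_right
      (by rw [show 2 * K * (q * M) = 2 * q * M * K by ring]; exact hdn)

theorem card_cent_le {x : H} (hx : x ≠ 1) : Nat.card (centralizer ({x} : Set H)) ≤ q + 1 := by
  obtain ⟨s, hs, hsx⟩ := Nat.exists_prime_and_dvd (mt orderOf_eq_one_iff.1 hx)
  obtain ⟨y, hy, hyo⟩ := exists_prime_pow_elem hs hsx
  refine le_trans (card_le_of_le (cent_le_zpow hy)) ?_
  have h3 := h.hK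
  have h7 := h.seven
  rcases h.pp s y hs (ne_one_of_order hs hyo) (pp_self hyo) with ⟨-, e⟩ | ⟨-, e⟩ | ⟨-, e | e⟩ <;>
    rw [e] <;> rcases h.side with h' | h' <;> omega

/-- The elements killed by `q`. -/
theorem count_q : Nat.card {x : H // x ^ q = 1} = q ^ 2 := by
  obtain ⟨p, f, hp, hf, hq⟩ := h.qpow
  haveI := Fact.mk hp
  obtain ⟨P⟩ : Nonempty (Sylow p H) := inferInstance
  have hpq : p ∣ q := hq ▸ dvd_pow_self p hf.ne'
  have hnd : ¬ p ∣ 2 * M * K := by
    intro hd
    have hc : Nat.Coprime q (2 * M * K) := by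
      rw [show 2 * M * K = 2 * K * M by ring]; exact h.cop_qK.mul_right h.cop_qM
    exact hp.not_dvd_one (hc.gcd_eq_one ▸ Nat.dvd_gcd hpq hd)
  have hne : 2 * M * K ≠ 0 := fun e => hnd (e ▸ dvd_zero p)
  have hP : Nat.card (P : Subgroup H) = q := by
    rw [Sylow.card_eq_multiplicity, h.card, show 2 * q * M * K = q * (2 * M * K) by ring,
      Nat.factorization_mul (by have := h.seven; omega) hne, Finsupp.add_apply,
      Nat.factorization_eq_zero_of_not_dvd hnd, hq, hp.factorization_pow, Finsupp.single_eq_same,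
      add_zero]
  set X : Subgroup H := (P : Subgroup H) with hXdef
  have hcq : ∀ x : H, x ^ q = 1 → x ≠ 1 → Nat.card (centralizer ({x} : Set H)) = q := fun x hx h1 => by
    rw [hq] at hx
    rcases h.pp p x hp h1 ⟨f, orderOf_dvd_of_pow_eq_one hx⟩ with ⟨-, e⟩ | ⟨e, -⟩ | ⟨e, -⟩
    · exact e
    · exact absurd (dvd_mul_of_dvd_left (dvd_mul_of_dvd_right e 2) K) hnd
    · exact absurd (e.trans (Dvd.intro M (by ring))) hnd
  have hX : Covers X := by
    intro x hx h1
    rw [hP] at hx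
    have hpg : IsPGroup p (centralizer ({x} : Set H)) :=
      IsPGroup.of_card (n := f) ((hcq x hx h1).trans hq)
    obtain ⟨Q, hQ⟩ := hpg.exists_le_sylow
    have hQc : centralizer ({x} : Set H) = Q := eq_of_le_of_card_ge hQ (by
      rw [hcq x hx h1, ← hP, hXdef, Sylow.card_eq_multiplicity, Sylow.card_eq_multiplicity])
    obtain ⟨g, hg⟩ := MulAction.exists_smul_eq H P Q
    exact ⟨g, by rw [hQc, ← hg]; rfl⟩
  have : Nontrivial X := by
    rw [← Finite.one_lt_card_iff_nontrivial, hP]; have := h.seven; omega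
  haveI : Nontrivial (center X) := P.2.center_nontrivial
  obtain ⟨⟨⟨c, hc'⟩, hcZ⟩, hc1⟩ := exists_ne (1 : center X)
  have hz : 2 ≤ Nat.card (zc X) := by
    have : Nontrivial (zc X) := ⟨⟨c, hc', fun y hy =>
      congrArg Subtype.val (mem_center_iff.1 hcZ ⟨y, hy⟩)⟩, 1,
      fun e => hc1 (Subtype.ext (Subtype.ext (by simpa using congrArg Subtype.val e)))⟩
    exact Finite.one_lt_card
  set ι := (normalizer (X : Set H)).index
  set z := Nat.card (zc X)
  set s := X.relIndex (normalizer (X : Set H))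
  have hzq : z ≤ q := hP ▸ card_le_of_le inf_le_left
  have hcount := hX.count
  rw [hP] at hcount
  have hdvd : q ∣ ι * (z - 1) + 1 := hP ▸ hX.dvd_count
  have hs : s ≤ z - 1 := Nat.le_of_dvd (by omega) hX.relIndex_dvd
  have hs0 : 0 < s := Covers.relIndex_pos X
  have hns : ι * s = 2 * M * K := by
    have h' := index_normalizer_mul X
    rw [h.card, hP] at h'
    refine Nat.eq_of_mul_eq_mul_left (show 0 < q by have := h.seven; omega) ?_
    rw [show q * (2 * M * K) = 2 * q * M * K by ring, ← h']; ring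
  have h4 : (4 * M * K : ℤ) = (q : ℤ) ^ 2 - 1 := by
    have e1 : (M : ℤ) + K = q := by exact_mod_cast h.hK
    rcases h.side with h' | h'
    · have e2 : (q : ℤ) + 1 = 2 * M := by exact_mod_cast h'
      rw [show (K : ℤ) = M - 1 by linarith, show (q : ℤ) = 2 * M - 1 by linarith]; ring
    · have e2 : (q : ℤ) = 2 * M + 1 := by exact_mod_cast h'
      rw [show (K : ℤ) = M + 1 by linarith, e2]; ring
  have key : (z : ℤ) - 1 = 2 * s := by
    obtain ⟨w, hw⟩ : ∃ w, z = w + 1 := ⟨z - 1, by omega⟩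
    rw [hw, Nat.add_sub_cancel] at hdvd hs
    have h1 : (q : ℤ) ∣ 2 * s * ((ι * w + 1 : ℕ) : ℤ) := dvd_mul_of_dvd_right (by exact_mod_cast hdvd) _
    have h2 : 2 * (s : ℤ) * ((ι * w + 1 : ℕ) : ℤ) =
        (q : ℤ) * (q * w) + (2 * (s : ℤ) - w) := by
      push_cast
      have : (ι : ℤ) * s = 2 * M * K := by exact_mod_cast hns
      linear_combination (2 * (w : ℤ)) * this + (w : ℤ) * h4
    rw [h2, dvd_add_right (dvd_mul_right _ _)] at h1
    have := Int.eq_zero_of_abs_lt_dvd h1 (abs_lt.2 ⟨by omega, by omega⟩)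
    omega
  rw [hcount]
  have h5 : z - 1 = 2 * s := by omega
  rw [h5, show ι * (2 * s) = 2 * (ι * s) by ring, hns]
  have : ((2 * (2 * M * K) + 1 : ℕ) : ℤ) = ((q ^ 2 : ℕ) : ℤ) := by push_cast; linarith
  exact_mod_cast this

/-- The torus of odd order `M`. -/
theorem exists_torus : ∃ X : Subgroup H, Covers X ∧ Nat.card X = M ∧ zc X = X ∧
    X.relIndex (normalizer (X : Set H)) = 2 ∧ (normalizer (X : Set H)).index = q * K ∧
    Nat.card {x : H // x ^ M = 1} = q * K * (M - 1) + 1 := by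
  have hM3 := h.M_ge
  obtain ⟨r, hr, hrM⟩ := Nat.exists_prime_and_dvd (show M ≠ 1 by omega)
  haveI := Fact.mk hr
  obtain ⟨R⟩ : Nonempty (Sylow r H) := inferInstance
  have hrn : r ∣ Nat.card H := h.card ▸ dvd_mul_of_dvd_left (dvd_mul_of_dvd_right hrM _) K
  haveI : Nontrivial (R : Subgroup H) :=
    (nontrivial_iff_ne_bot _).2 (R.ne_bot_of_dvd_card hrn)
  haveI : Nontrivial (center (R : Subgroup H)) := R.2.center_nontrivial
  obtain ⟨⟨⟨c, hcR⟩, hcZ⟩, hc1⟩ := exists_ne (1 : center (R : Subgroup H))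
  have hc0 : c ≠ 1 := fun e => hc1 (Subtype.ext (Subtype.ext e))
  have hcp : ∃ k, orderOf c ∣ r ^ k := by
    obtain ⟨k, hk⟩ := R.2 ⟨c, hcR⟩
    exact ⟨k, orderOf_dvd_of_pow_eq_one (congrArg Subtype.val hk)⟩
  have hclass : ∀ {t : ℕ} {x : H}, t.Prime → x ≠ 1 → (∃ k, orderOf x ∣ t ^ k) → t ∣ M →
      Nat.card (centralizer ({x} : Set H)) = M := by
    intro t x ht hx hxp htM
    rcases h.pp t x ht hx hxp with ⟨e, -⟩ | ⟨-, e⟩ | ⟨e, -⟩
    · exact (ht.not_dvd_one (h.cop_qM.gcd_eq_one ▸ Nat.dvd_gcd e htM)).elim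
    · exact e
    · exact (ht.not_dvd_one (h.cop_MK.gcd_eq_one ▸ Nat.dvd_gcd htM e)).elim
  set X : Subgroup H := centralizer ({c} : Set H) with hXdef
  have hXc : Nat.card X = M := hclass hr hc0 hcp hrM
  have hRX : (R : Subgroup H) ≤ X := fun y hy =>
    mem_centralizer_singleton_iff.2 (congrArg Subtype.val (mem_center_iff.1 hcZ ⟨y, hy⟩))
  have rig : ∀ {t s : ℕ} {y x : H}, t.Prime → s.Prime → t ≠ s → (∃ k, orderOf y ∣ t ^ k) →
      (∃ k, orderOf x ∣ s ^ k) → y ≠ 1 → x ≠ 1 → Commute y x → t ∣ M → s ∣ M →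
      centralizer ({y} : Set H) = centralizer ({x} : Set H) := fun ht hs hne hy hx hy1 hx1 hc htM hsM =>
    le_antisymm (h.rigid _ _ _ _ ht hs hne hy hx hy1 hc (Or.inl htM))
      (h.rigid _ _ _ _ hs ht hne.symm hx hy hx1 hc.symm (Or.inl hsM))
  -- prime power elements
  have hpp : ∀ {t : ℕ} {x : H}, t.Prime → t ∣ M → x ≠ 1 → (∃ k, orderOf x ∣ t ^ k) →
      ∃ g : H, centralizer ({x} : Set H) = X.map (MulAut.conj g).toMonoidHom := by
    intro t x ht htM hx hxp
    set Y := centralizer ({x} : Set H) with hY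
    have hYc : Nat.card Y = M := hclass ht hx hxp htM
    obtain ⟨T⟩ : Nonempty (Sylow r Y) := inferInstance
    have hTi : ¬ r ∣ ((T : Subgroup Y).map Y.subtype).index := by
      rw [index_map_subtype]
      intro hd
      refine (hr.dvd_mul.1 hd).elim T.not_dvd_index fun hd' => ?_
      have h1 := Y.card_mul_index
      rw [hYc, h.card] at h1
      have h2 : Y.index = 2 * q * K := Nat.eq_of_mul_eq_mul_left (by omega : 0 < M)
        (by rw [h1]; ring)
      rw [h2, show 2 * q * K = 2 * K * q by ring] at hd'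
      exact hr.not_dvd_one ((h.cop_MK.mul_right h.cop_qM.symm).gcd_eq_one ▸ Nat.dvd_gcd hrM hd')
    obtain ⟨g, hg⟩ := MulAction.exists_smul_eq H R ((T.2.map _).toSylow hTi)
    refine ⟨g, ?_⟩
    have hmap : X.map (MulAut.conj g).toMonoidHom = centralizer ({g * c * g⁻¹} : Set H) :=
      map_conj_cent g c
    rw [hmap]
    set y := g * c * g⁻¹ with hy
    have hy1 : y ≠ 1 := fun e => hc0 (conj_eq_one_iff.1 e)
    have hyp : ∃ k, orderOf y ∣ r ^ k := by
      obtain ⟨k, hk⟩ := hcp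
      exact ⟨k, by rw [hy, ← MulAut.conj_apply, MulEquiv.orderOf_eq]; exact hk⟩
    have hTle : (T : Subgroup Y).map Y.subtype ≤ centralizer ({y} : Set H) := by
      rw [← hmap]
      intro w hw
      have hw' : w ∈ ((g • R : Sylow r H) : Subgroup H) := hg.symm ▸ hw
      obtain ⟨v, hv, rfl⟩ := hw'
      exact ⟨v, hRX hv, rfl⟩
    have hyY : Commute y x := by
      have hm : y ∈ ((g • R : Sylow r H) : Subgroup H) := ⟨c, hcR, rfl⟩
      rw [hg] at hm
      obtain ⟨u, -, hu⟩ := hm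
      have := u.2
      rw [← hu]
      exact mem_centralizer_singleton_iff.1 this
    by_cases htr : t = r
    · subst htr
      by_cases hsp : ∃ s : ℕ, s.Prime ∧ s ≠ t ∧ s ∣ M
      · obtain ⟨s, hs, hst, hsM⟩ := hsp
        haveI := Fact.mk hs
        obtain ⟨⟨u, hu⟩, huo⟩ := exists_prime_orderOf_dvd_card' (G := Y) s (hYc ▸ hsM)
        rw [← Subgroup.orderOf_coe] at huo
        change orderOf u = s at huo
        have hux : Commute x u := (mem_centralizer_singleton_iff.1 hu : Commute u x).symm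
        have e1 := rig ht hs hst.symm hxp (pp_self huo) hx (ne_one_of_order hs huo) hux htM hsM
        have huy : Commute y u := by
          have : y ∈ centralizer ({u} : Set H) := e1 ▸ mem_centralizer_singleton_iff.2 hyY.eq
          exact mem_centralizer_singleton_iff.1 this
        rw [hY, e1, rig ht hs hst.symm hyp (pp_self huo) hy1 (ne_one_of_order hs huo) huy htM hsM]
      · push Not at hsp
        have hYp : IsPGroup t Y := by
          refine IsPGroup.of_card (n := M.primeFactorsList.length) ?_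
          rw [hYc]
          exact Nat.eq_prime_pow_of_unique_prime_dvd (by omega) fun {d} hd hdd => by
            by_contra hne; exact hsp d hd hne hdd
        have hTt : ∀ w ∈ Y, w ∈ (T : Subgroup Y).map Y.subtype := fun w hw => by
          have : (⊤ : Subgroup Y) = T := T.3 (by
            intro g; obtain ⟨k, hk⟩ := hYp g; exact ⟨k, Subtype.ext hk⟩) le_top
          exact ⟨⟨w, hw⟩, this ▸ mem_top _, rfl⟩
        exact eq_of_le_of_card_ge (fun w hw => hTle (hTt w hw))
          (by rw [hYc, hclass hr hy1 hyp hrM])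
    · exact rig ht hr htr hxp hyp hx hy1 hyY.symm htM hrM
  -- all elements
  have hX : Covers X := by
    intro x hx h1
    rw [hXc] at hx
    obtain ⟨t, ht, htx⟩ := Nat.exists_prime_and_dvd (mt orderOf_eq_one_iff.1 h1)
    have hxM := orderOf_dvd_of_pow_eq_one hx
    by_cases hxp : ∃ k, orderOf x ∣ t ^ k
    · exact hpp ht (htx.trans hxM) h1 hxp
    obtain ⟨s, hs, hsx, hst⟩ : ∃ s : ℕ, s.Prime ∧ s ∣ orderOf x ∧ s ≠ t := by
      by_contra hcon
      push Not at hcon
      exact hxp ⟨_, (Nat.eq_prime_pow_of_unique_prime_dvd (orderOf_pos x).ne'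
        fun {d} hd hdd => hcon d hd hdd).dvd⟩
    obtain ⟨y, hy, hyo⟩ := exists_prime_pow_elem ht htx
    obtain ⟨u, hu, huo⟩ := exists_prime_pow_elem hs hsx
    obtain ⟨g, hg⟩ := hpp ht (htx.trans hxM) (ne_one_of_order ht hyo) (pp_self hyo)
    refine ⟨g, le_antisymm ((cent_le_zpow hy).trans hg.le) (hg.ge.trans ?_)⟩
    have e1 := rig ht hs hst.symm (pp_self hyo) (pp_self huo) (ne_one_of_order ht hyo)
      (ne_one_of_order hs huo) (commute_of_mem_zpowers hy hu) (htx.trans hxM) (hsx.trans hxM)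
    intro w hw
    have hle := TwoClassSizes.le_of_primePow_mem (H := zpowers x) (K := centralizer ({w} : Set H)) ?_
      (mem_zpowers x)
    · exact mem_centralizer_singleton_iff.2
        (show Commute x w from mem_centralizer_singleton_iff.1 hle).symm.eq
    intro a ha r' hr' hap
    refine mem_centralizer_singleton_iff.2 (Commute.eq (Commute.symm ?_))
    have : w ∈ centralizer ({a} : Set H) := by
      by_cases hrt : t = r'
      · subst hrt
        rw [e1] at hw
        exact h.rigid _ _ _ _ hs ht hst (pp_self huo) hap (ne_one_of_order hs huo)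
          (commute_of_mem_zpowers hu ha) (Or.inl (hsx.trans hxM)) hw
      · exact h.rigid _ _ _ _ ht hr' hrt (pp_self hyo) hap (ne_one_of_order ht hyo)
          (commute_of_mem_zpowers hy ha) (Or.inl (htx.trans hxM)) hw
    exact mem_centralizer_singleton_iff.1 this
  have hz : 2 ≤ Nat.card (zc X) := by
    have hm : c ∈ zc X := ⟨hRX hcR, fun y hy => mem_centralizer_singleton_iff.1 hy⟩
    have : Nontrivial (zc X) := ⟨⟨c, hm⟩, 1, fun e => hc0 (congrArg Subtype.val e)⟩
    exact Finite.one_lt_card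
  set ι := (normalizer (X : Set H)).index with hι
  set z := Nat.card (zc X) with hzdef
  set s := X.relIndex (normalizer (X : Set H))
  have hs : s ∣ z - 1 := hX.relIndex_dvd
  have hs0 : 0 < s := Covers.relIndex_pos X
  have hsle : s ≤ z - 1 := Nat.le_of_dvd (by omega) hs
  have hzM : z ∣ M := hXc ▸ card_dvd_of_le inf_le_left
  have hns : ι * s = 2 * q * K := by
    have h' := index_normalizer_mul X
    rw [h.card, hXc] at h'
    refine Nat.eq_of_mul_eq_mul_left (show 0 < M by omega) ?_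
    rw [show M * (2 * q * K) = 2 * q * M * K by ring, ← h']; ring
  have hdvd : M ∣ ι * (z - 1) + 1 := hXc ▸ hX.dvd_count
  have hmod : (M : ℤ) ∣ 2 * ((z : ℤ) - 1) + s := by
    have h1 : (M : ℤ) ∣ s * ((ι * (z - 1) + 1 : ℕ) : ℤ) :=
      dvd_mul_of_dvd_right (by exact_mod_cast hdvd) _
    push_cast [Nat.cast_sub (show 1 ≤ z by omega)] at h1
    have e0 : (ι : ℤ) * s = 2 * q * K := by exact_mod_cast hns
    have hqK : (M : ℤ) ∣ (q : ℤ) * K - 1 := by
      have e1 : (M : ℤ) + K = q := by exact_mod_cast h.hK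
      rcases h.side with h' | h'
      · have e2 : (q : ℤ) + 1 = 2 * M := by exact_mod_cast h'
        exact ⟨2 * M - 3, by rw [show (K : ℤ) = M - 1 by linarith, show (q : ℤ) = 2 * M - 1 by linarith]; ring⟩
      · have e2 : (q : ℤ) = 2 * M + 1 := by exact_mod_cast h'
        exact ⟨2 * M + 3, by rw [show (K : ℤ) = M + 1 by linarith, e2]; ring⟩
    have h2 := dvd_sub h1 (hqK.mul_right (2 * ((z : ℤ) - 1)))
    have e : (s : ℤ) * ((ι : ℤ) * ((z : ℤ) - 1) + 1) - ((q : ℤ) * K - 1) * (2 * ((z : ℤ) - 1))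
        = 2 * ((z : ℤ) - 1) + s := by linear_combination ((z : ℤ) - 1) * e0
    rwa [e] at h2
  have hzeq : z = M := by
    obtain ⟨j, hj⟩ := hzM
    have hjo : Odd j := (Nat.odd_mul.1 (hj ▸ h.Modd)).2
    by_contra hne
    have hj3 : 3 ≤ j := by
      obtain ⟨i, rfl⟩ := hjo
      rcases Nat.eq_zero_or_pos i with rfl | hi
      · exact absurd (by simpa using hj.symm) hne
      · omega
    have h3 : z * 3 ≤ M := hj ▸ Nat.mul_le_mul_left z hj3
    have := Int.le_of_dvd (by omega) hmod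
    omega
  have hseq : s = 2 := by
    have h1 : (M : ℤ) ∣ (s : ℤ) - 2 := by
      have := dvd_sub hmod (dvd_mul_left (M : ℤ) 2)
      rw [hzeq] at this
      rwa [show 2 * ((M : ℤ) - 1) + s - 2 * M = s - 2 by ring] at this
    have := Int.eq_zero_of_abs_lt_dvd h1 (abs_lt.2 ⟨by omega, by omega⟩)
    omega
  have hιeq : ι = q * K := by
    rw [hseq, mul_assoc] at hns; omega
  refine ⟨X, hX, hXc, eq_of_le_of_card_ge inf_le_left (by rw [← hzdef, hzeq, hXc]), hseq, hιeq, ?_⟩
  rw [← hXc, hX.count, ← hι, hιeq, ← hzdef, hzeq, hXc]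

/-- The elements killed by `2 * K`. -/
theorem count_K : Nat.card {x : H // x ^ (2 * K) = 1} = q * M * (K - 1) + 1 := by
  classical
  haveI := Fintype.ofFinite H
  obtain ⟨X, -, -, -, -, -, hM⟩ := h.exists_torus
  have hq := h.count_q
  set A : Finset H := Finset.univ.filter fun x => x ^ q = 1 with hA
  set B : Finset H := Finset.univ.filter fun x => x ^ M = 1 with hB
  set C : Finset H := Finset.univ.filter fun x => x ^ (2 * K) = 1 with hC
  have hcA : A.card = q ^ 2 := by rw [← hq, Nat.card_eq_fintype_card, Fintype.card_subtype]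
  have hcB : B.card = q * K * (M - 1) + 1 := by rw [← hM, Nat.card_eq_fintype_card, Fintype.card_subtype]
  have one : ∀ {a b : ℕ}, Nat.Coprime a b → ∀ x : H, x ^ a = 1 → x ^ b = 1 → x = 1 :=
    fun hab x h1 h2 => orderOf_eq_one_iff.1 (Nat.dvd_one.1 (hab.gcd_eq_one ▸
      Nat.dvd_gcd (orderOf_dvd_of_pow_eq_one h1) (orderOf_dvd_of_pow_eq_one h2)))
  have e1 : A ∩ B = {1} := by
    ext x
    simp only [hA, hB, Finset.mem_inter, Finset.mem_filter, Finset.mem_univ, true_and,
      Finset.mem_singleton]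
    exact ⟨fun hx => one h.cop_qM x hx.1 hx.2, by rintro rfl; simp⟩
  have e2 : (A ∪ B) ∩ C = {1} := by
    ext x
    simp only [hA, hB, hC, Finset.mem_inter, Finset.mem_union, Finset.mem_filter, Finset.mem_univ,
      true_and, Finset.mem_singleton]
    exact ⟨fun hx => hx.1.elim (fun h1 => one h.cop_qK x h1 hx.2) (fun h1 => one h.cop_MK x h1 hx.2),
      by rintro rfl; simp⟩
  have e3 : (A ∪ B) ∪ C = Finset.univ := Finset.eq_univ_of_forall fun x => by
    rcases h.trichotomy x with e | e | e <;> simp [hA, hB, hC, e]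
  have c1 := Finset.card_union_add_card_inter A B
  have c2 := Finset.card_union_add_card_inter (A ∪ B) C
  rw [e1, Finset.card_singleton] at c1
  rw [e2, e3, Finset.card_singleton, Finset.card_univ, ← Nat.card_eq_fintype_card, h.card] at c2
  rw [Nat.card_eq_fintype_card, Fintype.card_subtype, ← hC]
  have hM1 := h.M_ge
  have hK1 := h.K_ge
  obtain ⟨m, rfl⟩ : ∃ m, M = m + 1 := ⟨M - 1, by omega⟩
  obtain ⟨k, rfl⟩ : ∃ k, K = k + 1 := ⟨K - 1, by omega⟩
  obtain rfl : q = m + 1 + (k + 1) := h.hK.symm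
  rw [Nat.add_sub_cancel] at hcB ⊢
  nlinarith [c1, c2, hcA, hcB]

end OddCtx

end Cfsg.Agent.PSLClassSize
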