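import Mathlib.GroupTheory.OrderOfElement
import Mathlib.Data.Nat.Prime.Basic
import Mathlib.Tactic.Ring

/-!
The centralizer orders in the central quotient of a group with the class sizes of `PSL(2, q)`,
`q` odd.
-/

set_option autoImplicit false

namespace Cfsg.Agent.PSLClassSize

open Subgroup

universe u

/-- A group of order `2 q M K` with the centralizer orders of `PSL(2, q)`, where `M` is the odd
one of `(q - 1) / 2` and `(q + 1) / 2` and `K` the even one. -/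
structure OddCtx (H : Type u) [Group H] (q M K : ℕ) : Prop where
  seven : 7 ≤ q
  qpow : ∃ p f : ℕ, p.Prime ∧ 0 < f ∧ q = p ^ f
  qodd : Odd q
  side : q + 1 = 2 * M ∨ q = 2 * M + 1
  Modd : Odd M
  hK : M + K = q
  card : Nat.card H = 2 * q * M * K
  pp : ∀ (r : ℕ) (x : H), r.Prime → x ≠ 1 → (∃ k, orderOf x ∣ r ^ k) →
    (r ∣ q ∧ Nat.card (centralizer ({x} : Set H)) = q) ∨
      (r ∣ M ∧ Nat.card (centralizer ({x} : Set H)) = M) ∨
      (r ∣ 2 * K ∧ (Nat.card (centralizer ({x} : Set H)) = K ∨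
        Nat.card (centralizer ({x} : Set H)) = 2 * K))
  rigid : ∀ (r s : ℕ) (y x : H), r.Prime → s.Prime → r ≠ s → (∃ k, orderOf y ∣ r ^ k) →
    (∃ k, orderOf x ∣ s ^ k) → y ≠ 1 → Commute y x →
    (r ∣ M ∨ (r ≠ 2 ∧ r ∣ K ∧ Nat.card (centralizer ({y} : Set H)) = K)) →
    centralizer ({y} : Set H) ≤ centralizer ({x} : Set H)
  big : ∀ x : H, x ≠ 1 → x ^ (2 * K) = 1 → K ≤ Nat.card (centralizer ({x} : Set H))

variable {H : Type u} [Group H] {q M K : ℕ}

theorem OddCtx.M_ge (h : OddCtx H q M K) : 3 ≤ M := by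
  have := h.seven; rcases h.side with h' | h' <;> omega

theorem OddCtx.K_ge (h : OddCtx H q M K) : 4 ≤ K := by
  have h1 := h.seven
  have h2 := h.hK
  obtain ⟨a, ha⟩ := h.qodd
  obtain ⟨b, hb⟩ := h.Modd
  rcases h.side with h' | h' <;> omega

theorem OddCtx.K_even (h : OddCtx H q M K) : 2 ∣ K := by
  have h2 := h.hK
  obtain ⟨a, ha⟩ := h.qodd
  obtain ⟨b, hb⟩ := h.Modd
  omega

theorem OddCtx.cop_qM (h : OddCtx H q M K) : Nat.Coprime q M := by
  refine Nat.coprime_of_dvd fun r hr h1 h2 => hr.not_dvd_one ?_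
  rcases h.side with h' | h'
  · exact (Nat.dvd_add_right h1).1 (h' ▸ dvd_mul_of_dvd_right h2 2)
  · exact (Nat.dvd_add_right (dvd_mul_of_dvd_right h2 2)).1 (h' ▸ h1)

theorem OddCtx.cop_MK' (h : OddCtx H q M K) : Nat.Coprime M K := by
  refine Nat.coprime_of_dvd fun r hr h1 h2 => hr.not_dvd_one ?_
  have h3 : r ∣ q := h.hK ▸ dvd_add h1 h2
  exact h.cop_qM.gcd_eq_one ▸ Nat.dvd_gcd h3 h1

theorem OddCtx.cop_qK (h : OddCtx H q M K) : Nat.Coprime q (2 * K) := by
  refine Nat.Coprime.mul_right (Nat.coprime_two_right.2 h.qodd) ?_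
  refine Nat.coprime_of_dvd fun r hr h1 h2 => hr.not_dvd_one ?_
  have h3 : r ∣ M := (Nat.dvd_add_left h2).1 (h.hK ▸ h1)
  exact h.cop_qM.gcd_eq_one ▸ Nat.dvd_gcd h1 h3

theorem OddCtx.cop_MK (h : OddCtx H q M K) : Nat.Coprime M (2 * K) :=
  Nat.Coprime.mul_right (Nat.coprime_two_right.2 h.Modd) h.cop_MK'

end Cfsg.Agent.PSLClassSize
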