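import Cfsg.Agent.PSLClassSize.Basic
import Cfsg.Agent.PSLClassSize.OddCtx

/-!
The central quotient of a group with the class sizes of `PSL(2, q)`, `q` odd.
-/

set_option autoImplicit false
set_option linter.style.haveILetI false

namespace Cfsg.Agent.PSLClassSize

open Subgroup

universe u

variable {G : Type u} [Group G] [Finite G]

omit [Finite G] in
theorem prime_dvd_card_im {r : ℕ} (hr : r.Prime) {w : G} (hw : PP r w) (hwc : w ∉ center G) :
    r ∣ Nat.card (im w) := by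
  obtain ⟨j, hj⟩ := hw.map prj
  obtain ⟨i, -, hi⟩ := (Nat.dvd_prime_pow hr).1 hj
  have hi0 : i ≠ 0 := fun e =>
    hwc (prj_eq_one.1 (orderOf_eq_one_iff.1 (by rw [hi, e, pow_zero])))
  have hd := orderOf_dvd_natCard (im w) (show prj w ∈ im w from ⟨w, mem_cent.2 rfl, rfl⟩)
  rw [hi] at hd
  exact (dvd_pow_self r hi0).trans hd

/-- What is needed of the extension. -/
structure OddExt (G : Type u) [Group G] (q M K : ℕ) : Prop where
  ctx : OddCtx (G ⧸ center G) q M K
  lift : ∀ (r : ℕ) (w : G), r.Prime → r ≠ 2 → PP r w → w ∉ center G →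
    centralizer ({prj w} : Set (G ⧸ center G)) = im w
  dex : ∃ (r : ℕ) (g : G), r.Prime ∧ PP r g ∧ g ∉ center G ∧ idx g = q * M
  dbot : Bot G (q * M)
  dlift : ∀ (r : ℕ) (w : G), r.Prime → PP r w → w ∉ center G → idx w = q * M →
    centralizer ({prj w} : Set (G ⧸ center G)) = im w ∧
      Nat.card (centralizer ({prj w} : Set (G ⧸ center G))) = 2 * K

theorem odd_ext {q M K p f : ℕ} (hp : p.Prime) (hqp : q = p ^ f) (hq7 : 7 ≤ q) (hqo : Odd q)
    (hside : q + 1 = 2 * M ∨ q = 2 * M + 1) (hMo : Odd M) (hMK : M + K = q)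
    (h : ∀ m : ℕ, (∃ g : G, idx g = m) ↔
      m ∈ ({1, 2 * M * K, q * M, 2 * q * K, 2 * q * M} : Set ℕ)) :
    OddExt G q M K := by
  classical
  have hf : 0 < f := Nat.pos_of_ne_zero fun e => by rw [e, pow_zero] at hqp; omega
  have hpq : p ∣ q := hqp ▸ dvd_pow_self p hf.ne'
  -- elementary arithmetic
  have hM3 : 3 ≤ M := by rcases hside with h' | h' <;> omega
  have hK4 : 4 ≤ K := by
    obtain ⟨u, hu⟩ := hqo; obtain ⟨v, hv⟩ := hMo
    rcases hside with h' | h' <;> omega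
  have hK2 : 2 ∣ K := by obtain ⟨u, hu⟩ := hqo; obtain ⟨v, hv⟩ := hMo; omega
  have cqM : Nat.Coprime q M := by
    refine Nat.coprime_of_dvd fun r hr h1 h2 => hr.not_dvd_one ?_
    rcases hside with h' | h'
    · exact (Nat.dvd_add_right h1).1 (h' ▸ dvd_mul_of_dvd_right h2 2)
    · exact (Nat.dvd_add_right (dvd_mul_of_dvd_right h2 2)).1 (h' ▸ h1)
  have cMK : Nat.Coprime M K := Nat.coprime_of_dvd fun r hr h1 h2 =>
    hr.not_dvd_one (cqM.gcd_eq_one ▸ Nat.dvd_gcd (hMK ▸ dvd_add h1 h2) h1)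
  have cqK : Nat.Coprime q K := Nat.coprime_of_dvd fun r hr h1 h2 =>
    hr.not_dvd_one (cqM.gcd_eq_one ▸ Nat.dvd_gcd h1 ((Nat.dvd_add_left h2).1 (hMK ▸ h1)))
  have cq2 : Nat.Coprime q 2 := Nat.coprime_two_right.2 hqo
  have cM2 : Nat.Coprime M 2 := Nat.coprime_two_right.2 hMo
  have cqa : Nat.Coprime q (2 * M * K) := (cq2.mul_right cqM).mul_right cqK
  have npos : 0 < 2 * M * K := Nat.mul_pos (by omega) (by omega)
  -- class sizes
  have hsz : ∀ g : G, g ∉ center G →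
      idx g = 2 * M * K ∨ idx g = q * M ∨ idx g = 2 * q * K ∨ idx g = 2 * q * M := fun g hg => by
    have h1 := (h (idx g)).1 ⟨g, rfl⟩
    simp only [Set.mem_insert_iff, Set.mem_singleton_iff] at h1
    exact h1.resolve_left fun e => hg (idx_eq_one.1 e)
  have hnq : ∀ {m}, q ∣ m → ¬ m ∣ 2 * M * K := fun hm hd => by
    have := (cqa.gcd_eq_one ▸ Nat.dvd_gcd dvd_rfl (hm.trans hd) : q ∣ 1)
    rw [Nat.dvd_one] at this; omega
  have hMn : ∀ {m}, M ∣ m → ¬ m ∣ 2 * q * K := fun hm hd => by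
    have h1 : Nat.Coprime M (2 * q * K) := (cM2.mul_right cqM.symm).mul_right cMK
    have := (h1.gcd_eq_one ▸ Nat.dvd_gcd dvd_rfl (hm.trans hd) : M ∣ 1)
    rw [Nat.dvd_one] at this; omega
  have hKn : ∀ {m}, K ∣ m → ¬ m ∣ 2 * q * M := fun hm hd => by
    have h1 : Nat.Coprime K (q * M) := cqK.symm.mul_right cMK.symm
    have := Nat.le_of_dvd two_pos (h1.dvd_of_dvd_mul_right (by rw [← mul_assoc]; exact hm.trans hd))
    omega
  have h2n : ∀ {m}, 2 ∣ m → ¬ m ∣ q * M := fun hm hd => by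
    have := (Nat.Prime.coprime_iff_not_dvd Nat.prime_two).1 (cq2.mul_left cM2).symm
    exact this (hm.trans hd)
  have da : q ∣ q * M ∧ q ∣ 2 * q * K ∧ q ∣ 2 * q * M :=
    ⟨dvd_mul_right _ _, dvd_mul_of_dvd_left (dvd_mul_left q 2) K,
      dvd_mul_of_dvd_left (dvd_mul_left q 2) M⟩
  have d2 : 2 ∣ 2 * M * K ∧ 2 ∣ 2 * q * K ∧ 2 ∣ 2 * q * M :=
    ⟨dvd_mul_of_dvd_left (dvd_mul_right 2 M) K, dvd_mul_of_dvd_left (dvd_mul_right 2 q) K,
      dvd_mul_of_dvd_left (dvd_mul_right 2 q) M⟩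
  have dM : M ∣ 2 * M * K ∧ M ∣ q * M ∧ M ∣ 2 * q * M :=
    ⟨dvd_mul_of_dvd_left (dvd_mul_left M 2) K, dvd_mul_left _ _, dvd_mul_left _ _⟩
  have dK : K ∣ 2 * M * K ∧ K ∣ 2 * q * K := ⟨dvd_mul_left _ _, dvd_mul_left _ _⟩
  have hnc : ∀ {g : G} {m}, 2 ≤ m → m ∣ idx g → g ∉ center G := fun {g m} hm hd hgc => by
    rw [idx_eq_one.2 hgc, Nat.dvd_one] at hd; omega
  have hqM2 : 2 ≤ q * M := le_trans (by omega) (Nat.le_mul_of_pos_left M (by omega : 0 < q))
  have topA : Top G (2 * M * K) := fun g hg => by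
    rcases hsz g (hnc (by have := Nat.le_mul_of_pos_right (2 * M) (show 0 < K by omega); omega) hg)
      with e | e | e | e <;> rw [e] at hg ⊢
    · exact absurd hg (h2n d2.1)
    · exact absurd hg (hMn dM.1)
    · exact absurd hg (hKn dK.1)
  have botA : Bot G (2 * M * K) := fun g hgc hg => by
    rcases hsz g hgc with e | e | e | e <;> rw [e] at hg ⊢
    · exact absurd hg (hnq da.1)
    · exact absurd hg (hnq da.2.1)
    · exact absurd hg (hnq da.2.2)
  have topB : Top G (2 * q * K) := fun g hg => by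
    rcases hsz g (hnc (by have := Nat.le_mul_of_pos_right (2 * q) (show 0 < K by omega); omega) hg)
      with e | e | e | e <;> rw [e] at hg ⊢
    · exact absurd hg (hnq da.2.1)
    · exact absurd hg (h2n d2.2.1)
    · exact absurd hg (hKn dK.2)
  have botB : Bot G (2 * q * K) := fun g hgc hg => by
    rcases hsz g hgc with e | e | e | e <;> rw [e] at hg ⊢
    · exact absurd hg (hMn dM.1)
    · exact absurd hg (hMn dM.2.1)
    · exact absurd hg (hMn dM.2.2)
  have topC : Top G (2 * q * M) := fun g hg => by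
    rcases hsz g (hnc (by have := Nat.le_mul_of_pos_right (2 * q) (show 0 < M by omega); omega) hg)
      with e | e | e | e <;> rw [e] at hg ⊢
    · exact absurd hg (hnq da.2.2)
    · exact absurd hg (h2n d2.2.2)
    · exact absurd hg (hMn dM.2.2)
  have botD : Bot G (q * M) := fun g hgc hg => by
    rcases hsz g hgc with e | e | e | e <;> rw [e] at hg ⊢
    · exact absurd hg (h2n d2.1)
    · exact absurd hg (h2n d2.2.1)
    · exact absurd hg (h2n d2.2.2)
  have hmem : ∀ {m}, 2 ≤ m → m ∈ ({1, 2 * M * K, q * M, 2 * q * K, 2 * q * M} : Set ℕ) →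
      ∃ g : G, g ∉ center G ∧ idx g = m := fun {m} hm2 hm => by
    obtain ⟨g, hg⟩ := (h m).2 hm
    exact ⟨g, hnc hm2 hg.symm.dvd, hg⟩
  obtain ⟨xa, hxac, hxa⟩ := hmem (m := 2 * M * K) (by omega) (by simp)
  obtain ⟨xb, hxbc, hxb⟩ := hmem (m := 2 * q * K)
    (by have := Nat.le_mul_of_pos_right (2 * q) (show 0 < K by omega); omega) (by simp)
  obtain ⟨xd, hxdc, hxd⟩ := hmem (m := q * M) hqM2 (by simp)
  -- the order of the quotient
  set n := Nat.card (G ⧸ center G) with hn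
  have hdvd : ∀ g : G, idx g ∣ n := fun g => Dvd.intro _ (card_im_mul g)
  have hN0 : q * (2 * M * K) ∣ n := cqa.mul_dvd_of_dvd_of_dvd
    (((dvd_mul_right q M).trans hxd.symm.dvd).trans (hdvd xd)) (hxa ▸ hdvd xa)
  obtain ⟨k, hk⟩ := hN0
  have him : ∀ {g : G} {m u : ℕ}, idx g = m → m * u = q * (2 * M * K) →
      Nat.card (im g) = u * k := by
    intro g m u e hu
    have h1 := card_im_mul g
    rw [e, ← hn, hk, ← hu, mul_assoc] at h1
    exact Nat.eq_of_mul_eq_mul_left (e ▸ idx_pos g) h1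
  have hk1 : k = 1 := by
    by_contra hne
    obtain ⟨r, hr, hrk⟩ := Nat.exists_prime_and_dvd hne
    by_cases hrq : r ∣ q
    · obtain rfl : r = p := (Nat.prime_dvd_prime_iff_eq hr hp).1 (hr.dvd_of_dvd_pow (hqp ▸ hrq))
      obtain ⟨r', hr', hrd⟩ := Nat.exists_prime_and_dvd (show M ≠ 1 by omega)
      have hne' : r ≠ r' := fun e =>
        hr.not_dvd_one (cqM.gcd_eq_one ▸ Nat.dvd_gcd hrq (e ▸ hrd))
      have hi := him hxb (show 2 * q * K * M = q * (2 * M * K) by ring)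
      refine not_dvd_of_two_primes topB botB hxb hxbc hr hr' hne' ?_ ?_ ⟨xa, hxac, ?_⟩
        (hrq.trans da.2.1)
      · rw [hi]; exact dvd_mul_of_dvd_right hrk _
      · rw [hi]; exact dvd_mul_of_dvd_left hrd _
      · rw [hxa]; exact fun hd => hr.not_dvd_one (cqa.gcd_eq_one ▸ Nat.dvd_gcd hrq hd)
    · have hra : r ∣ 2 * M * K := by
        by_contra hna
        refine not_dvd_card_quotient hr (fun g hg => ?_) (hk ▸ dvd_mul_of_dvd_right hrk _)
        by_cases hgc : g ∈ center G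
        · rw [idx_eq_one.2 hgc] at hg; exact hr.not_dvd_one hg
        have key : ∀ {x : ℕ}, x ∣ 2 * M * K → ¬ r ∣ x := fun hx hd => hna (hd.trans hx)
        rcases hsz g hgc with e | e | e | e <;> rw [e] at hg
        · exact hna hg
        · exact (hr.dvd_mul.1 hg).elim hrq (key dM.1)
        · rcases hr.dvd_mul.1 hg with hd | hd
          · exact (hr.dvd_mul.1 hd).elim (key d2.1) hrq
          · exact key dK.1 hd
        · rcases hr.dvd_mul.1 hg with hd | hd
          · exact (hr.dvd_mul.1 hd).elim (key d2.1) hrq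
          · exact key dM.1 hd
      have hg : ∃ g : G, g ∉ center G ∧ ¬ r ∣ idx g := by
        by_cases hrM : r ∣ M
        · refine ⟨xb, hxbc, fun hd => ?_⟩
          rw [hxb] at hd
          exact hr.not_dvd_one (((cM2.mul_right cqM.symm).mul_right cMK).gcd_eq_one ▸
            Nat.dvd_gcd hrM hd)
        · exact ⟨xd, hxdc, fun hd => (hr.dvd_mul.1 (hxd ▸ hd)).elim hrq hrM⟩
      have hi := him hxa (show 2 * M * K * q = q * (2 * M * K) by ring)
      refine not_dvd_of_two_primes topA botA hxa hxac hr hp (fun e => hrq (e ▸ hpq)) ?_ ?_ hg hra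
      · rw [hi]; exact dvd_mul_of_dvd_right hrk _
      · rw [hi]; exact dvd_mul_of_dvd_left hpq _
  subst hk1
  rw [mul_one] at hk
  -- the type of a prime power element
  have htype : ∀ {r : ℕ}, r.Prime → ∀ w : G, PP r w → w ∉ center G →
      (r ∣ q ∧ idx w = 2 * M * K ∧ Nat.card (im w) = q ∧ ¬ r ∣ idx w) ∨
      (r ∣ M ∧ idx w = 2 * q * K ∧ Nat.card (im w) = M ∧ ¬ r ∣ idx w) ∨
      (r ∣ 2 * K ∧ idx w = 2 * q * M ∧ Nat.card (im w) = K ∧ (r ≠ 2 → ¬ r ∣ idx w)) ∨
      (r ∣ 2 * K ∧ idx w = q * M ∧ Nat.card (im w) = 2 * K ∧ ¬ r ∣ idx w) := by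
    intro r hr w hw hwc
    have hd := prime_dvd_card_im hr hw hwc
    rcases hsz w hwc with e | e | e | e
    · have hi : Nat.card (im w) = q := by
        simpa using him e (show 2 * M * K * q = q * (2 * M * K) by ring)
      rw [hi] at hd
      exact Or.inl ⟨hd, e, hi, fun hx => hr.not_dvd_one (cqa.gcd_eq_one ▸ Nat.dvd_gcd hd (e ▸ hx))⟩
    · have hi : Nat.card (im w) = 2 * K := by
        simpa using him e (show q * M * (2 * K) = q * (2 * M * K) by ring)
      rw [hi] at hd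
      have hco : Nat.Coprime (2 * K) (q * M) :=
        (cq2.symm.mul_right cM2.symm).mul_left (cqK.symm.mul_right cMK.symm)
      exact Or.inr (Or.inr (Or.inr ⟨hd, e, hi,
        fun hx => hr.not_dvd_one (hco.gcd_eq_one ▸ Nat.dvd_gcd hd (e ▸ hx))⟩))
    · have hi : Nat.card (im w) = M := by
        simpa using him e (show 2 * q * K * M = q * (2 * M * K) by ring)
      rw [hi] at hd
      exact Or.inr (Or.inl ⟨hd, e, hi, fun hx => hr.not_dvd_one
        (((cM2.mul_right cqM.symm).mul_right cMK).gcd_eq_one ▸ Nat.dvd_gcd hd (e ▸ hx))⟩)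
    · have hi : Nat.card (im w) = K := by
        simpa using him e (show 2 * q * M * K = q * (2 * M * K) by ring)
      rw [hi] at hd
      refine Or.inr (Or.inr (Or.inl ⟨dvd_mul_of_dvd_right hd 2, e, hi, fun hr2 hx => ?_⟩))
      rw [e, mul_assoc] at hx
      have hx' := (hr.dvd_mul.1 hx).resolve_left fun h' =>
        hr2 ((Nat.prime_dvd_prime_iff_eq hr Nat.prime_two).1 h')
      exact hr.not_dvd_one ((cqK.symm.mul_right cMK.symm).gcd_eq_one ▸ Nat.dvd_gcd hd hx')
  have hlift : ∀ (r : ℕ) (w : G), r.Prime → r ≠ 2 → PP r w → w ∉ center G →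
      centralizer ({prj w} : Set (G ⧸ center G)) = im w := fun r w hr hr2 hw hwc => by
    rcases htype hr w hw hwc with ⟨-, -, -, e⟩ | ⟨-, -, -, e⟩ | ⟨-, -, -, e⟩ | ⟨-, -, -, e⟩
    exacts [cent_prj_eq hr hw e, cent_prj_eq hr hw e, cent_prj_eq hr hw (e hr2), cent_prj_eq hr hw e]
  refine ⟨⟨hq7, ⟨p, f, hp, hf, hqp⟩, hqo, hside, hMo, hMK,
    hk.trans (by ring), ?_, ?_, ?_⟩, hlift, ?_, botD, ?_⟩
  · intro r x hr hx hpx
    obtain ⟨w, rfl, hw⟩ := exists_lift hr hpx
    have hwc : w ∉ center G := fun hwc => hx (prj_eq_one.2 hwc)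
    rcases htype hr w hw hwc with ⟨h1, -, h3, e⟩ | ⟨h1, -, h3, e⟩ | ⟨h1, hi, h3, e⟩ | ⟨h1, -, h3, e⟩
    · exact Or.inl ⟨h1, by rw [cent_prj_eq hr hw e, h3]⟩
    · exact Or.inr (Or.inl ⟨h1, by rw [cent_prj_eq hr hw e, h3]⟩)
    · refine Or.inr (Or.inr ⟨h1, ?_⟩)
      by_cases hr2 : r = 2
      · subst hr2
        have h4 : ¬ 4 ∣ idx w := by
          rw [hi, mul_assoc, show (4 : ℕ) = 2 * 2 from rfl, Nat.mul_dvd_mul_iff_left two_pos]
          exact fun hd => h2n (dvd_refl 2) hd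
        rcases card_cent_prj_two hw h4 with e' | e' <;> rw [h3] at e'
        exacts [Or.inl e', Or.inr e']
      · exact Or.inl (by rw [cent_prj_eq hr hw (e hr2), h3])
    · exact Or.inr (Or.inr ⟨h1, Or.inr (by rw [cent_prj_eq hr hw e, h3])⟩)
  · intro r s y x hr hs hrs hy hx hy1 hc hcase
    obtain ⟨w, rfl, hw⟩ := exists_lift hr hy
    obtain ⟨v, rfl, hv⟩ := exists_lift hs hx
    have hwc : w ∉ center G := fun hwc => hy1 (prj_eq_one.2 hwc)
    have hco : Nat.Coprime (orderOf w) (orderOf v) := hw.coprime_pp hr hs hrs hv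
    have hvw : Commute v w :=
      commute_of_prj hw (hv.coprime ((Nat.coprime_primes hs hr).2 hrs.symm)).symm hc.symm
    have h2 : idx w = 2 * q * K ∨ idx w = 2 * q * M := by
      rcases htype hr w hw hwc with ⟨h1, h2, h3, e⟩ | ⟨h1, h2, h3, e⟩ | ⟨h1, h2, h3, e⟩ | ⟨h1, h2, h3, e⟩
      · exfalso
        rcases hcase with hM' | ⟨-, hK', -⟩
        · exact hr.not_dvd_one (cqM.gcd_eq_one ▸ Nat.dvd_gcd h1 hM')
        · exact hr.not_dvd_one (cqK.gcd_eq_one ▸ Nat.dvd_gcd h1 hK')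
      · exact Or.inl h2
      · exact Or.inr h2
      · exfalso
        rcases hcase with hM' | ⟨-, -, hcard⟩
        · exact hr.not_dvd_one ((cM2.mul_right cMK).gcd_eq_one ▸ Nat.dvd_gcd hM' h1)
        · rw [cent_prj_eq hr hw e, h3] at hcard; omega
    have hr2 : r ≠ 2 := by
      rcases hcase with hM' | ⟨hr2, -, -⟩
      · rintro rfl; exact (Nat.Prime.coprime_iff_not_dvd Nat.prime_two).1 cM2.symm hM'
      · exact hr2
    have hle : centralizer ({w} : Set G) ≤ centralizer ({v} : Set G) := by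
      rcases h2 with h2 | h2
      · exact cent_le_of_top topB h2 hvw.symm hco
      · exact cent_le_of_top topC h2 hvw.symm hco
    rw [hlift r w hr hr2 hw hwc]
    exact (Subgroup.map_mono hle).trans (im_le_cent v)
  · intro x hx hx2
    obtain ⟨g, rfl⟩ := QuotientGroup.mk'_surjective _ x
    have hgc : g ∉ center G := fun hgc => hx (prj_eq_one.2 hgc)
    obtain ⟨r, g₁, hr, hg₁, hg₁c, hg₁m⟩ := exists_component hgc
    have hle := idx_dvd_of_cent_le (cent_le_of_mem_zpowers hg₁m)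
    have hr2K : r ∣ 2 * K := by
      obtain ⟨i, hi⟩ := mem_zpowers_iff.1 hg₁m
      have h1 : prj g₁ ^ (2 * K) = 1 := by
        rw [← hi, map_zpow, ← zpow_natCast, ← zpow_mul, mul_comm, zpow_mul, zpow_natCast, hx2,
          one_zpow]
      by_contra hnd
      exact hg₁c (prj_eq_one.1 (eq_one_of_coprime (hg₁.map prj) h1 (hr.coprime_iff_not_dvd.2 hnd)))
    have hd : q * M ∣ idx g := by
      rcases htype hr g₁ hg₁ hg₁c with ⟨h1, -⟩ | ⟨h1, -⟩ | ⟨-, h2, -⟩ | ⟨-, h2, -⟩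
      · exact (hr.not_dvd_one ((cq2.mul_right cqK).gcd_eq_one ▸ Nat.dvd_gcd h1 hr2K)).elim
      · exact (hr.not_dvd_one ((cM2.mul_right cMK).gcd_eq_one ▸ Nat.dvd_gcd h1 hr2K)).elim
      · exact (Dvd.intro_left 2 (mul_assoc 2 q M).symm).trans (h2 ▸ hle)
      · exact h2 ▸ hle
    have hK' : K ≤ Nat.card (im g) := by
      rcases hsz g hgc with e | e | e | e <;> rw [e] at hd
      · exact absurd hd (hnq da.1)
      · have := him e (show q * M * (2 * K) = q * (2 * M * K) by ring); omega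
      · exact absurd hd (hMn dM.2.1)
      · have := him e (show 2 * q * M * K = q * (2 * M * K) by ring); omega
    exact hK'.trans (card_le_of_le (im_le_cent g))
  · obtain ⟨r, g₁, hr, hg₁, hg₁c, hg₁m⟩ := exists_component hxdc
    exact ⟨r, g₁, hr, hg₁, hg₁c,
      botD g₁ hg₁c (hxd ▸ idx_dvd_of_cent_le (cent_le_of_mem_zpowers hg₁m))⟩
  · intro r w hr hw hwc he
    rcases htype hr w hw hwc with ⟨-, h2, -⟩ | ⟨-, h2, -⟩ | ⟨-, h2, -⟩ | ⟨h1, h2, h3, e⟩
    · exact absurd (he.symm.trans h2).symm.dvd (h2n d2.1)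
    · exact absurd (he.symm.trans h2).symm.dvd (h2n d2.2.1)
    · exact absurd (he.symm.trans h2).symm.dvd (h2n d2.2.2)
    · have := cent_prj_eq hr hw e
      exact ⟨this, by rw [this, h3]⟩

end Cfsg.Agent.PSLClassSize
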