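import Cfsg.Agent.PSLClassSize.OddCount
import Cfsg.Agent.S0033
import Mathlib.GroupTheory.Nilpotent
import Mathlib.GroupTheory.Transfer

/-!
Simplicity.
-/

set_option autoImplicit false
set_option linter.style.haveILetI false

namespace Cfsg.Agent.PSLClassSize

open Subgroup

universe u

variable {H : Type u} [Group H] {q M K : ℕ}

/-- The non-trivial normal subgroups are not small. -/
theorem OddCtx.not_small [Finite H] (h : OddCtx H q M K) {R : Subgroup H} [R.Normal] (hR : R ≠ ⊥) :
    q + 1 < Nat.card R := by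
  classical
  by_contra hle
  push Not at hle
  obtain ⟨x, hx, hx1⟩ := (R.bot_or_exists_ne_one).resolve_left hR
  let φ : H ⧸ centralizer ({x} : Set H) → R := fun u =>
    ⟨u.out * x * u.out⁻¹, Normal.conj_mem inferInstance x hx _⟩
  have hφ : Function.Injective φ := by
    intro u u' e
    have e : u.out * x * u.out⁻¹ = u'.out * x * u'.out⁻¹ := congrArg Subtype.val e
    rw [← QuotientGroup.out_eq' u, ← QuotientGroup.out_eq' u', QuotientGroup.eq,
      mem_centralizer_singleton_iff]
    calc u.out⁻¹ * u'.out * x = u.out⁻¹ * (u'.out * x * u'.out⁻¹) * u'.out := by group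
      _ = x * (u.out⁻¹ * u'.out) := by rw [← e]; group
  have h1 : (centralizer ({x} : Set H)).index ≤ q + 1 :=
    (Nat.card_le_card_of_injective φ hφ).trans hle
  have h2 := Nat.mul_le_mul (h.card_cent_le hx1) h1
  rw [card_mul_index, h.card] at h2
  have h3 := h.seven
  have h4 := h.M_ge
  have h5 := h.K_ge
  have h6 : M + K + 1 ≤ M * K := by nlinarith
  have h7 : 2 * q * M * K = 2 * q * (M * K) := by ring
  have h8 := h.hK
  nlinarith

theorem exists_index_two_of_twice_odd {Q : Type*} [Group Q] [Finite Q] {d : ℕ}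
    (hd : Nat.card Q = 2 * d) (hodd : Odd d) : ∃ M : Subgroup Q, M.Normal ∧ M.index = 2 := by
  haveI := Fact.mk Nat.prime_two
  obtain ⟨P⟩ : Nonempty (Sylow 2 Q) := inferInstance
  have hP : Nat.card (P : Subgroup Q) = 2 := by
    rw [Sylow.card_eq_multiplicity, hd, Nat.factorization_mul two_ne_zero hodd.pos.ne',
      Finsupp.add_apply, Nat.Prime.factorization_self Nat.prime_two,
      Nat.factorization_eq_zero_of_not_dvd hodd.not_two_dvd_nat]
    norm_num
  have hmin : (Nat.card Q).minFac = 2 := (Nat.minFac_eq_two_iff _).2 (hd ▸ dvd_mul_right 2 d)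
  have hcyc : IsCyclic (P : Subgroup Q) := isCyclic_of_prime_card hP
  refine ⟨(MonoidHom.transferSylow P (IsCyclic.normalizer_le_centralizer hmin hcyc)).ker,
    inferInstance, ?_⟩
  rw [(IsCyclic.isComplement' hmin hcyc).symm.index_eq_card]
  exact hP

theorem mem_of_coprime_pow [Finite H] {N : Subgroup H} [N.Normal] {x : H} {m : ℕ} (hx : x ^ m = 1)
    (hc : Nat.Coprime m N.index) : x ∈ N := by
  rw [← QuotientGroup.eq_one_iff, ← orderOf_eq_one_iff]
  exact Nat.dvd_one.1 (hc.gcd_eq_one ▸ Nat.dvd_gcd
    (orderOf_dvd_of_pow_eq_one (by rw [← QuotientGroup.mk_pow, hx]; rfl)) (N.index_eq_card ▸ orderOf_dvd_natCard _))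

namespace OddCtx

variable [Finite H] (h : OddCtx H q M K)
include h

theorem no_index_two (N : Subgroup H) [N.Normal] : N.index ≠ 2 := by
  classical
  haveI := Fintype.ofFinite H
  intro h2
  obtain ⟨X, -, -, -, -, -, hM⟩ := h.exists_torus
  set A : Finset H := Finset.univ.filter fun x => x ^ q = 1 with hA
  set B : Finset H := Finset.univ.filter fun x => x ^ M = 1 with hB
  have hsub : A ∪ B ⊆ Finset.univ.filter fun x => x ∈ N := fun x hx => by
    simp only [hA, hB, Finset.mem_union, Finset.mem_filter, Finset.mem_univ, true_and] at hx ⊢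
    rcases hx with hx | hx
    · exact mem_of_coprime_pow hx (h2.symm ▸ Nat.coprime_two_right.2 h.qodd)
    · exact mem_of_coprime_pow hx (h2.symm ▸ Nat.coprime_two_right.2 h.Modd)
  have hi : A ∩ B ⊆ {1} := fun x hx => by
    simp only [hA, hB, Finset.mem_inter, Finset.mem_filter, Finset.mem_univ, true_and] at hx
    exact Finset.mem_singleton.2 (orderOf_eq_one_iff.1 (Nat.dvd_one.1 (h.cop_qM.gcd_eq_one ▸
      Nat.dvd_gcd (orderOf_dvd_of_pow_eq_one hx.1) (orderOf_dvd_of_pow_eq_one hx.2))))
  have hAc : A.card = q ^ 2 := by rw [← h.count_q, Nat.card_eq_fintype_card, Fintype.card_subtype]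
  have hBc : B.card = q * K * (M - 1) + 1 := by rw [← hM, Nat.card_eq_fintype_card, Fintype.card_subtype]
  have h3 := Finset.card_union_add_card_inter A B
  have h4 := Finset.card_le_card hsub
  have h5 := Finset.card_le_card hi
  rw [Finset.card_singleton] at h5
  have h6 := N.card_mul_index
  rw [h2, h.card, Nat.card_eq_fintype_card, Fintype.card_subtype] at h6
  have h7 := h.M_ge
  have h9 := h.K_ge
  obtain ⟨m, rfl⟩ : ∃ m, M = m + 1 := ⟨M - 1, by omega⟩
  obtain rfl : q = m + 1 + K := h.hK.symm
  rw [Nat.add_sub_cancel] at hBc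
  nlinarith

theorem isSimple : IsSimpleGroup H := by
  classical
  haveI := Fintype.ofFinite H
  have h7 := h.seven
  have hMg := h.M_ge
  have hKg := h.K_ge
  obtain ⟨X, hX, hXc, hzc, -, hι, hBcount⟩ := h.exists_torus
  haveI : Nontrivial H := by
    rw [← Finite.one_lt_card_iff_nontrivial, h.card]
    have : 0 < q * M * K := Nat.mul_pos (Nat.mul_pos (by omega) (by omega)) (by omega)
    rw [mul_assoc 2, mul_assoc 2]; omega
  refine ⟨fun N hN => ?_⟩
  by_contra hcon
  push Not at hcon
  obtain ⟨hNb, hNt⟩ := hcon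
  by_cases hB : ∃ x ∈ N, x ≠ 1 ∧ x ^ M = 1
  · obtain ⟨x, hx, hx1, hxM⟩ := hB
    obtain ⟨r, hr, hrx⟩ := Nat.exists_prime_and_dvd (mt orderOf_eq_one_iff.1 hx1)
    have hrM : r ∣ M := hrx.trans (orderOf_dvd_of_pow_eq_one hxM)
    haveI := Fact.mk hr
    obtain ⟨R⟩ : Nonempty (Sylow r N) := inferInstance
    haveI : Nontrivial (R : Subgroup N) :=
      (nontrivial_iff_ne_bot _).2 (R.ne_bot_of_dvd_card (hrx.trans (orderOf_dvd_natCard N hx)))
    haveI : Nontrivial (center (R : Subgroup N)) := R.2.center_nontrivial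
    obtain ⟨⟨⟨⟨c, hcN⟩, hcR⟩, hcZ⟩, hc1⟩ := exists_ne (1 : center (R : Subgroup N))
    have hc0 : c ≠ 1 := fun e => hc1 (Subtype.ext (Subtype.ext (Subtype.ext e)))
    have hcM : c ^ M = 1 := by
      obtain ⟨k, hk⟩ := R.2 ⟨⟨c, hcN⟩, hcR⟩
      have hk : c ^ r ^ k = 1 := congrArg (fun y : (R : Subgroup N) => ((y : N) : H)) hk
      have h1 : orderOf c ∣ 2 * q * M * K := h.card ▸ orderOf_dvd_natCard c
      refine orderOf_dvd_iff_pow_eq_one.1 (Nat.Coprime.dvd_of_dvd_mul_right ?_
        (show orderOf c ∣ M * (2 * K * q) by rw [show M * (2 * K * q) = 2 * q * M * K by ring]; exact h1))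
      refine Nat.Coprime.coprime_dvd_left (orderOf_dvd_of_pow_eq_one hk) (Nat.Coprime.pow_left k ?_)
      exact (h.cop_MK.mul_right h.cop_qM.symm).coprime_dvd_left hrM
    obtain ⟨g, hg⟩ := hX c (by rw [hXc]; exact hcM) hc0
    set Y := centralizer ({c} : Set H) with hY
    have hYab : ∀ a ∈ Y, ∀ b ∈ Y, a * b = b * a := by
      intro a ha b hb
      rw [hg] at ha hb
      obtain ⟨a', ha', rfl⟩ := ha
      obtain ⟨b', hb', rfl⟩ := hb
      rw [← map_mul, ← map_mul, (hzc.symm ▸ hb' : b' ∈ zc X).2 a' ha']
    have hYc : Nat.card Y = M := by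
      rw [hg, card_map_of_injective (MulAut.conj g).injective, hXc]
    have hRY : (R : Subgroup N).map N.subtype ≤ Y := by
      rintro _ ⟨w, hw, rfl⟩
      exact mem_centralizer_singleton_iff.2
        (congrArg (fun y : (R : Subgroup N) => ((y : N) : H)) (mem_center_iff.1 hcZ ⟨w, hw⟩))
    have hNR : normalizer (((R : Subgroup N).map N.subtype : Subgroup H) : Set H) ≤
        normalizer (Y : Set H) := by
      intro u hu
      have hm : u * c * u⁻¹ ∈ Y :=
        hRY ((mem_normalizer_iff.1 hu c).1 ⟨⟨c, hcN⟩, hcR, rfl⟩)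
      have hne : u * c * u⁻¹ ≠ 1 := fun e => hc0 (conj_eq_one_iff.1 e)
      have hle : Y ≤ centralizer ({u * c * u⁻¹} : Set H) := fun w hw =>
        mem_centralizer_singleton_iff.2 (hYab w hw _ hm)
      obtain ⟨g', hg'⟩ := hX _ (by rw [hXc, conj_pow, hcM, mul_one, mul_inv_cancel]) hne
      refine mem_normalizer_of_map ?_
      rw [hY, map_conj_cent]
      refine (eq_of_le_of_card_ge hle ?_).symm
      rw [hYc, hg', card_map_of_injective (MulAut.conj g').injective, hXc]
    have hNYc : Nat.card (normalizer (Y : Set H)) = 2 * M := by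
      have e1 : normalizer (Y : Set H) = (normalizer (X : Set H)).map (MulAut.conj g).toMonoidHom := by
        rw [hg]
        exact (map_normalizer_eq_of_bijective X (f := (MulAut.conj g).toMonoidHom) (MulAut.conj g).bijective).symm
      rw [e1, card_map_of_injective (MulAut.conj g).injective]
      have e2 := card_mul_index (normalizer (X : Set H))
      rw [hι, h.card] at e2
      exact Nat.eq_of_mul_eq_mul_right (show 0 < q * K from Nat.mul_pos (by omega) (by omega))
        (e2.trans (by ring))
    have hd : N.index ∣ 2 * M := by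
      have hsup := Sylow.normalizer_sup_eq_top (N := N) R
      have hmap : (normalizer (((R : Subgroup N).map N.subtype : Subgroup H) : Set H)).map
          (QuotientGroup.mk' N) = ⊤ := by
        rw [← map_top_of_surjective _ (QuotientGroup.mk'_surjective N), ← hsup, Subgroup.map_sup,
          QuotientGroup.map_mk'_self, sup_bot_eq]
      have h1 := card_map_dvd (normalizer (((R : Subgroup N).map N.subtype : Subgroup H) : Set H))
        (QuotientGroup.mk' N)
      rw [hmap, card_top, ← index_eq_card] at h1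
      exact h1.trans ((card_dvd_of_le hNR).trans hNYc.dvd)
    have hdne : N.index ≠ 1 := fun e => hNt (index_eq_one.1 e)
    by_cases hev : 2 ∣ N.index
    · obtain ⟨d, hd'⟩ := hev
      have hdodd : Odd d := by
        have : d ∣ M := (Nat.mul_dvd_mul_iff_left two_pos).1 (hd' ▸ hd)
        exact h.Modd.of_dvd_nat this
      obtain ⟨M', hM'n, hM'i⟩ := exists_index_two_of_twice_odd (Q := H ⧸ N) (d := d)
        (by rw [← index_eq_card, hd']) hdodd
      exact h.no_index_two (M'.comap (QuotientGroup.mk' N))
        (by rw [index_comap_of_surjective _ (QuotientGroup.mk'_surjective N), hM'i])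
    · have hdM : N.index ∣ M :=
        ((Nat.Prime.coprime_iff_not_dvd Nat.prime_two).2 hev).symm.dvd_of_dvd_mul_left hd
      have hd3 : 3 ≤ N.index := by
        have := Nat.pos_of_ne_zero (index_ne_zero_of_finite (H := N))
        omega
      have hsub : (Finset.univ.filter fun x => x ∉ N) ⊆
          (Finset.univ.filter fun x : H => x ^ M = 1).erase 1 := by
        intro x hx
        simp only [Finset.mem_filter, Finset.mem_univ, true_and] at hx
        simp only [Finset.mem_erase, Finset.mem_filter, Finset.mem_univ, true_and]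
        refine ⟨fun e => hx (e ▸ one_mem N), ?_⟩
        rcases h.trichotomy x with e | e | e
        · exact absurd (mem_of_coprime_pow e (h.cop_qM.coprime_dvd_right hdM)) hx
        · exact e
        · exact absurd (mem_of_coprime_pow e (h.cop_MK.symm.coprime_dvd_right hdM)) hx
      have h1 := Finset.card_le_card hsub
      rw [Finset.card_erase_of_mem (by simp), ← Fintype.card_subtype, ← Fintype.card_subtype,
        ← Nat.card_eq_fintype_card, ← Nat.card_eq_fintype_card, hBcount, Nat.add_sub_cancel] at h1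
      have h2 : Nat.card {x : H // x ∈ N} + Nat.card {x : H // x ∉ N} = Nat.card H := by
        rw [← Nat.card_sum, Nat.card_congr (Equiv.sumCompl fun x => x ∈ N)]
      have h3 := N.card_mul_index
      rw [h.card] at h2 h3
      have h4 : Nat.card N * 3 ≤ 2 * q * M * K := h3 ▸ Nat.mul_le_mul_left _ hd3
      obtain ⟨m, rfl⟩ : ∃ m, M = m + 1 := ⟨M - 1, by omega⟩
      rw [Nat.add_sub_cancel] at h1
      have h5 : 0 < q * K := Nat.mul_pos (by omega) (by omega)
      have h6 : Nat.card {x : H // x ∈ N} = Nat.card N := rfl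
      nlinarith
  · push Not at hB
    obtain ⟨r, hr, hrM⟩ := Nat.exists_prime_and_dvd (show M ≠ 1 by omega)
    haveI := Fact.mk hr
    obtain ⟨⟨b, hbX⟩, hbo⟩ := exists_prime_orderOf_dvd_card' (G := X) r (hXc ▸ hrM)
    rw [← Subgroup.orderOf_coe] at hbo
    change orderOf b = r at hbo
    have hb1 : b ≠ 1 := ne_one_of_order hr hbo
    have hCb : centralizer ({b} : Set H) = X := hX.cent_eq (hzc.symm ▸ hbX) hb1
    haveI := hN
    set φ : MulAut N := MulAut.conjNormal b
    have hfpf : MonoidHom.FixedPointFree (φ : N →* N) := by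
      intro n hn
      by_contra hne
      have e : b * (n : H) * b⁻¹ = n := congrArg Subtype.val hn
      have hm : (n : H) ∈ X := by
        rw [← hCb]; exact mem_centralizer_singleton_iff.2 (mul_inv_eq_iff_eq_mul.1 e).symm
      exact hB n n.2 (fun e' => hne (Subtype.ext e')) (hXc ▸ pow_card_of_mem hm)
    have hord : orderOf φ = r := by
      refine orderOf_eq_prime ?_ fun e => ?_
      · rw [← map_pow, ← hbo, pow_orderOf_eq_one, map_one]
      · obtain ⟨n, hn, hn1⟩ := (N.bot_or_exists_ne_one).resolve_left hNb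
        have := hfpf ⟨n, hn⟩ (by show φ ⟨n, hn⟩ = _; rw [e]; rfl)
        exact hn1 (congrArg Subtype.val this)
    have hnil : Group.IsNilpotent N := S0033.result φ hfpf r hr hord
    have : Nontrivial N := (nontrivial_iff_ne_bot N).2 hNb
    obtain ⟨s, hs, hsd⟩ := Nat.exists_prime_and_dvd (Finite.one_lt_card (α := N)).ne'
    haveI := Fact.mk hs
    obtain ⟨R⟩ : Nonempty (Sylow s N) := inferInstance
    have hRn : (R : Subgroup N).Normal := ((Group.isNilpotent_of_finite_tfae (G := N)).out 0 3 rfl rfl).mp hnil s inferInstance R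
    haveI : (R : Subgroup N).Characteristic := R.characteristic_of_normal hRn
    set R' := (R : Subgroup N).map N.subtype
    haveI : R'.Normal := ConjAct.normal_of_characteristic_of_normal
    have hR'ne : R' ≠ ⊥ := by
      intro e
      exact R.ne_bot_of_dvd_card hsd ((map_eq_bot_iff_of_injective _ N.subtype_injective).1 e)
    have hsm := h.not_small hR'ne
    obtain ⟨j, hj⟩ := (R.2.map N.subtype).exists_card_eq
    have hdvd : Nat.card R' ∣ 2 * q * M * K := h.card ▸ card_subgroup_dvd_card R'
    change Nat.card R' = s ^ j at hj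
    rw [hj] at hdvd hsm
    -- a prime power divisor of the order divides one of the three factors
    have hex : ∀ {A B : ℕ}, Nat.Coprime A B → s ^ j ∣ A * B → s ^ j ∣ A ∨ s ^ j ∣ B := by
      intro A B hAB hd
      by_cases hsA : s ∣ A
      · refine Or.inl (Nat.Coprime.dvd_of_dvd_mul_right (Nat.Coprime.pow_left j ?_) hd)
        exact hAB.coprime_dvd_left hsA
      · exact Or.inr (Nat.Coprime.dvd_of_dvd_mul_left
          (Nat.Coprime.pow_left j ((Nat.Prime.coprime_iff_not_dvd hs).2 hsA)) hd)
    rcases hex (h.cop_qM.mul_right h.cop_qK) (by rw [show q * (M * (2 * K)) = 2 * q * M * K by ring]; exact hdvd)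
      with e | e
    · have := Nat.le_of_dvd (by omega) e; omega
    · have hK' := h.hK
      rcases hex h.cop_MK e with e | e <;> have := Nat.le_of_dvd (by omega) e <;>
        rcases h.side with h' | h' <;> omega

theorem not_comm : ¬ IsMulCommutative H := by
  intro hc
  obtain ⟨X, hX, hXc, hzc, -, -, -⟩ := h.exists_torus
  have hM := h.M_ge
  have : Nontrivial X := by rw [← Finite.one_lt_card_iff_nontrivial, hXc]; omega
  obtain ⟨⟨b, hb⟩, hb1⟩ := exists_ne (1 : X)
  have e := hX.cent_eq (hzc.symm ▸ hb) (fun e => hb1 (Subtype.ext e))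
  have hXt : X = ⊤ := by
    rw [eq_top_iff, ← e]; exact fun y _ => mem_centralizer_singleton_iff.2 (hc.is_comm.comm y b)
  have := h.card
  rw [← card_top, ← hXt, hXc] at this
  have : M * 2 ≤ M * (2 * q * K) := Nat.mul_le_mul_left _ (by
    have := Nat.mul_pos (show 0 < q by have := h.seven; omega) (show 0 < K by have := h.K_ge; omega)
    rw [mul_assoc]; omega)
  nlinarith

end OddCtx

end Cfsg.Agent.PSLClassSize
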